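/-
BG14 farm (#848), piece [A]: (13.5) prime action of a Hall `τ₁(M)`-subgroup, and (C3) `C_{E₃}(E) = 1`.
(helper21)
-/
import Cfsg.Agent.Lib.Helper87.BG14.Defs
import Cfsg.Agent.Lib.Helper34.SylowIn
import Cfsg.Agent.S1415
import Cfsg.Agent.S1427
import Cfsg.Agent.S1428

set_option autoImplicit false

namespace Cfsg.Agent.Lib.Helper87.BG14

open Subgroup Cfsg Cfsg.Agent.Lib.Helper34

universe u

namespace PieceA

/-- transfer: a central element of `Γ'` inside a commutative subgroup `H` whose order is prime to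
the index of `H` is trivial. -/
theorem eq_one_of_central_of_coprime_index {Γ : Type u} [Group Γ] (H : Subgroup Γ)
    [H.FiniteIndex] (hH : ∀ a ∈ H, ∀ b ∈ H, a * b = b * a) {z : Γ} (hzc : z ∈ Subgroup.center Γ)
    (hz' : z ∈ commutator Γ) (hzH : z ∈ H) (hcop : (orderOf z).Coprime H.index) : z = 1 := by
  have key : ∀ (k : ℕ) (g₀ : Γ), g₀⁻¹ * z ^ k * g₀ ∈ H → g₀⁻¹ * z ^ k * g₀ = z ^ k := by
    intro k g₀ _
    have hc : z ^ k ∈ Subgroup.center Γ := Subgroup.pow_mem _ hzc k
    rw [mul_assoc, ← (Subgroup.mem_center_iff.mp hc) g₀, inv_mul_cancel_left]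
  have h1 := MonoidHom.transfer_eq_pow (Abelianization.of : H →* Abelianization H) z key
  have h2 : MonoidHom.transfer (Abelianization.of : H →* Abelianization H) z = 1 := by
    have := Abelianization.commutator_subset_ker
      (MonoidHom.transfer (Abelianization.of : H →* Abelianization H)) hz'
    exact this
  rw [h2] at h1
  have h3 : (⟨z, hzH⟩ : H) ^ H.index ∈ commutator H := by
    rw [← Abelianization.ker_of, MonoidHom.mem_ker]
    exact h1.symm
  have h6 : commutator H = ⊥ := by
    rw [commutator_def, Subgroup.commutator_eq_bot_iff_le_centralizer]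
    intro a _
    rw [Subgroup.mem_centralizer_iff]
    intro b _
    exact Subtype.ext (hH b b.2 a a.2)
  rw [h6, Subgroup.mem_bot] at h3
  have h7 : z ^ H.index = 1 := congrArg Subtype.val h3
  have h8 : orderOf z ∣ H.index := orderOf_dvd_of_pow_eq_one h7
  have h9 : orderOf z = 1 := Nat.Coprime.eq_one_of_dvd hcop h8
  exact orderOf_eq_one_iff.1 h9

variable {G : Type u} [Group G] [Finite G]

omit [Finite G] in
theorem comm_of_isCyclic {A : Subgroup G} (hA : IsCyclic A) : ∀ a ∈ A, ∀ b ∈ A, a * b = b * a := by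
  intro a ha b hb
  have := (IsCyclic.commGroup (α := A)).mul_comm ⟨a, ha⟩ ⟨b, hb⟩
  exact congrArg Subtype.val this

/-- (C3), from the relevant part of S1415 -/
theorem c3_core {π : Set ℕ} {E E₃ : Subgroup G} (hE₃ : IsPiHallOf π E₃ E) (hcyc : IsCyclic E₃)
    (hE₃' : E₃ ≤ ⁅E, E⁆) : E₃ ⊓ centralizer (E : Set G) = ⊥ := by
  rw [eq_bot_iff]
  intro z₀ hz₀
  obtain ⟨hz3, hzc⟩ := mem_inf.1 hz₀
  have hzE : z₀ ∈ E := hE₃.1 hz3
  rw [mem_bot]
  have h1 : (⟨z₀, hzE⟩ : E) ∈ center E := by
    rw [mem_center_iff]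
    intro g
    apply Subtype.ext
    exact (mem_centralizer_iff.1 hzc g g.2)
  have h2 : (⟨z₀, hzE⟩ : E) ∈ commutator E := by
    have : z₀ ∈ (commutator E).map E.subtype := by
      rw [map_subtype_commutator]; exact hE₃' hz3
    obtain ⟨w, hw, hwz⟩ := this
    have : w = ⟨z₀, hzE⟩ := Subtype.ext hwz
    rwa [← this]
  have h3 : (⟨z₀, hzE⟩ : E) ∈ E₃.subgroupOf E := mem_subgroupOf.2 hz3
  have h4 : (orderOf (⟨z₀, hzE⟩ : E)).Coprime (E₃.subgroupOf E).index := by
    apply Nat.coprime_of_dvd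
    intro k hk hk1 hk2
    have h5 : k ∣ Nat.card E₃ := by
      refine hk1.trans ?_
      rw [Subgroup.orderOf_mk, ← Subgroup.orderOf_mk z₀ hz3]
      exact orderOf_dvd_natCard _
    exact hE₃.2.2 k hk (hE₃.2.1 k hk h5) hk2
  have h5 := eq_one_of_central_of_coprime_index (E₃.subgroupOf E)
    (fun a ha b hb => Subtype.ext (comm_of_isCyclic hcyc a (mem_subgroupOf.1 ha) b (mem_subgroupOf.1 hb)))
    h1 h2 h3 h4
  exact congrArg Subtype.val h5

omit [Finite G] in
theorem mem_centralizer_zpowers_iff {x y : G} :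
    y ∈ centralizer ((zpowers x : Subgroup G) : Set G) ↔ y ∈ centralizer ({x} : Set G) := by
  constructor
  · intro h
    exact centralizer_le (by simp) h
  · intro h
    rw [mem_centralizer_iff]
    rintro _ ⟨k, rfl⟩
    have hc : Commute x y := (mem_centralizer_iff.1 h x rfl)
    exact (hc.zpow_left k).eq

/-- (13.5), from the relevant parts of S1415, S1427, S1428 -/
theorem l135_core {π : Set ℕ} {N E E₁ : Subgroup G} (hE₁ : IsPiHallOf π E₁ E) (hcyc : IsCyclic E₁)
    (h27 : ∀ (p : ℕ) [Fact p.Prime] (S : Sylow p E), (S : Subgroup E) ≠ ⊥ →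
      IsCyclic (S : Subgroup E) → ∀ x ∈ (S : Subgroup E).map E.subtype, x ≠ 1 →
      N ⊓ centralizer ({x} : Set G)
        = N ⊓ centralizer (((S : Subgroup E).map E.subtype : Subgroup G) : Set G))
    (h28 : ∀ p ∈ π, ∀ P : Subgroup G, P ≤ E → Nat.card P = p → ∀ R : Subgroup G,
      R ≤ E ⊓ centralizer (P : Set G) → (Nat.card R).Prime →
      N ⊓ centralizer (P : Set G) ≤ N ⊓ centralizer (R : Set G))
    {x : G} (hx : x ∈ E₁) (hx1 : x ≠ 1) :
    N ⊓ centralizer ({x} : Set G) = N ⊓ centralizer (E₁ : Set G) := by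
  have hcomm := comm_of_isCyclic hcyc
  apply le_antisymm
  · intro y hy
    obtain ⟨hyN, hyx⟩ := mem_inf.1 hy
    refine mem_inf.2 ⟨hyN, ?_⟩
    -- the subgroup `P` of prime order of `⟨x⟩`
    have hox : orderOf x ≠ 1 := fun h => hx1 (orderOf_eq_one_iff.1 h)
    have hp : (orderOf x).minFac.Prime := Nat.minFac_prime hox
    set p := (orderOf x).minFac with hpdef
    have hpx : p ∣ orderOf x := Nat.minFac_dvd _
    set w := x ^ (orderOf x / p) with hw
    have how : orderOf w = p := orderOf_pow_orderOf_div (orderOf_pos x).ne' hpx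
    have hwE₁ : w ∈ E₁ := pow_mem hx _
    have hPE₁ : zpowers w ≤ E₁ := zpowers_le.2 hwE₁
    have hPc : Nat.card (zpowers w) = p := by rw [Nat.card_zpowers, how]
    have hxE₁ : orderOf x ∣ Nat.card E₁ := by
      rw [← Subgroup.orderOf_mk x hx]
      exact orderOf_dvd_natCard _
    have hpπ : p ∈ π := hE₁.2.1 p hp (hpx.trans hxE₁)
    have hyP : y ∈ N ⊓ centralizer ((zpowers w : Subgroup G) : Set G) := by
      refine mem_inf.2 ⟨hyN, ?_⟩
      rw [mem_centralizer_zpowers_iff, mem_centralizer_iff]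
      intro g hg
      rw [Set.mem_singleton_iff] at hg
      have hc : Commute x y := (mem_centralizer_iff.1 hyx x rfl)
      rw [hg, hw]
      exact (hc.pow_left _).eq
    -- it suffices to catch a Sylow subgroup of `E₁` for every prime
    have hK : E₁ ⊓ centralizer ({y} : Set G) = E₁ := by
      apply le_antisymm inf_le_left
      rw [← Subgroup.relIndex_eq_one]
      by_contra hne
      obtain ⟨r, hr, hrd⟩ := Nat.exists_prime_and_dvd hne
      have : Fact r.Prime := ⟨hr⟩
      have hrE₁ : r ∣ Nat.card E₁ := hrd.trans (Subgroup.relIndex_dvd_card _ _)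
      have hrπ : r ∈ π := hE₁.2.1 r hr hrE₁
      obtain ⟨Q, hQ, -⟩ := exists_isSylowIn_ge (p := r) (bot_le : (⊥ : Subgroup G) ≤ E₁)
        IsPGroup.of_bot
      have hQE : IsSylowIn r Q E := by
        refine ⟨hQ.1.trans hE₁.1, hQ.2.1, ?_⟩
        rw [← relIndex_mul_relIndex Q E₁ E hQ.1 hE₁.1]
        exact hr.not_dvd_mul hQ.2.2 (hE₁.2.2 r hr hrπ)
      have hrQ : r ∣ Nat.card Q := by
        have h1 : Nat.card Q * Q.relIndex E₁ = Nat.card E₁ := by
          rw [← Subgroup.relIndex_bot_left, ← Subgroup.relIndex_bot_left,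
            relIndex_mul_relIndex _ _ _ bot_le hQ.1]
        rw [← h1] at hrE₁
        exact (hr.dvd_mul.1 hrE₁).resolve_right hQ.2.2
      obtain ⟨z, hz⟩ := exists_prime_orderOf_dvd_card' (G := Q) r hrQ
      have hz1 : (z : G) ≠ 1 := by
        intro h
        have : z = 1 := Subtype.ext h
        rw [this, orderOf_one] at hz
        exact hr.one_lt.ne hz
      have hoz : orderOf (z : G) = r := by rw [Subgroup.orderOf_coe, hz]
      have hmap : (hQE.toSylow : Subgroup E).map E.subtype = Q := by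
        rw [hQE.coe_toSylow, subgroupOf_map_subtype, inf_eq_left]
        exact hQE.1
      have hS1 : (hQE.toSylow : Subgroup E) ≠ ⊥ := by
        intro h
        rw [h, Subgroup.map_bot] at hmap
        apply hz1
        have h2 : ∀ g ∈ Q, g = 1 := by
          intro g hg
          rw [← hmap, mem_bot] at hg
          exact hg
        exact h2 _ z.2
      have hSc : IsCyclic (hQE.toSylow : Subgroup E) := by
        rw [hQE.coe_toSylow]
        have : IsCyclic Q := by
          have := hcyc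
          exact isCyclic_of_injective (Subgroup.inclusion hQ.1) (Subgroup.inclusion_injective hQ.1)
        exact isCyclic_of_injective (Subgroup.subgroupOfEquivOfLe hQE.1).toMonoidHom
          (Subgroup.subgroupOfEquivOfLe hQE.1).injective
      have e27 := h27 r hQE.toSylow hS1 hSc (z : G) (by rw [hmap]; exact z.2) hz1
      rw [hmap] at e27
      have hzE₁ : (z : G) ∈ E₁ := hQ.1 z.2
      have e28 := h28 p hpπ (zpowers w) (hPE₁.trans hE₁.1) hPc (zpowers (z : G))
        (by
          refine le_inf (zpowers_le.2 (hE₁.1 hzE₁)) ?_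
          rw [zpowers_le, mem_centralizer_iff]
          intro g hg
          exact hcomm g (hPE₁ hg) _ hzE₁)
        (by rw [Nat.card_zpowers, hoz]; exact hr)
      have hyz : y ∈ N ⊓ centralizer ({(z : G)} : Set G) := by
        have := e28 hyP
        exact mem_inf.2 ⟨hyN, mem_centralizer_zpowers_iff.1 (mem_inf.1 this).2⟩
      rw [e27] at hyz
      have hyQ := (mem_inf.1 hyz).2
      have hQle : Q ≤ E₁ ⊓ centralizer ({y} : Set G) := by
        refine le_inf hQ.1 ?_
        intro g hg
        rw [mem_centralizer_iff]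
        intro y' hy'
        rw [Set.mem_singleton_iff] at hy'
        rw [hy']
        exact ((mem_centralizer_iff.1 hyQ) g hg).symm
      exact hQ.2.2 (hrd.trans (Subgroup.relIndex_dvd_of_le_left E₁ hQle))
    rw [mem_centralizer_iff]
    intro g hg
    have hg' : g ∈ E₁ ⊓ centralizer ({y} : Set G) := by rw [hK]; exact hg
    exact ((mem_centralizer_iff.1 (mem_inf.1 hg').2) y rfl).symm
  · exact inf_le_inf_left _ (centralizer_le (by simpa using hx))

end PieceA

variable {G : Type u} [Group G] [Finite G]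

/-- (13.5) -/
theorem l135 (hG : IsMinSimpleOddOrder G) : L135 G := by
  intro M E E₁ hM hE hE₁ x hx hx1
  exact PieceA.l135_core hE₁ ((Cfsg.Agent.S1415.result hG M hM E hE).2.1 E₁ hE₁)
    (fun p _ S hS1 hSc => Cfsg.Agent.S1427.result hG M hM E hE p S hS1 hSc)
    (fun p hp P hPE hP R hRE hR => Cfsg.Agent.S1428.result hG M hM E hE p hp P hPE hP R hRE hR)
    hx hx1

/-- (C3) -/
theorem c3 (hG : IsMinSimpleOddOrder G) : C3 G := by
  intro M E E₃ hM hE hE₃
  obtain ⟨hcyc, hE₃', -⟩ := (Cfsg.Agent.S1415.result hG M hM E hE).2.2 E₃ hE₃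
  exact PieceA.c3_core hE₃ hcyc hE₃'

end Cfsg.Agent.Lib.Helper87.BG14
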