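/- helper58: piece [B] of helper87's BG14 farm (#848). -/
import Cfsg.Agent.Lib.Helper87.BG14.Defs
import Cfsg.Agent.Lib.Helper58.BG13L

set_option autoImplicit false

namespace Cfsg.Agent.Lib.Helper87.BG14

open Subgroup Cfsg

universe u

variable {G : Type u} [Group G] [Finite G]

theorem l1 (hG : IsMinSimpleOddOrder G) : L1 G := by
  intro M hM p hp hpσ hr P hPM hPc q Q hq hQ hQle
  haveI : Fact p.Prime := ⟨hp⟩
  haveI : Fact q.Prime := ⟨hq⟩
  exact Cfsg.Agent.Lib.Helper58.BG13L.L1 hG hM hpσ hr hPM hPc hQ hQle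

/-- (13.5), from `Helper58.BG13L.prime13_5`. -/
theorem l135_58 (hG : IsMinSimpleOddOrder G) : L135 G :=
  fun M E E₁ hM hE hE₁ x hx hx1 => Cfsg.Agent.Lib.Helper58.BG13L.prime13_5 hG hM hE hE₁ hx hx1

end Cfsg.Agent.Lib.Helper87.BG14
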