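/- helper58: piece [C] of helper87's BG14 farm (#848). -/
import Cfsg.Agent.Lib.Helper87.BG14.Defs
import Cfsg.Agent.Lib.Helper58.BG13L

set_option autoImplicit false

namespace Cfsg.Agent.Lib.Helper87.BG14

open Subgroup Cfsg

universe u

variable {G : Type u} [Group G] [Finite G]

theorem l2 (hG : IsMinSimpleOddOrder G) (_h1 : L1 G) : L2 G := by
  intro M hM p hp hpσ hr P hPM hPc X hX hXp hXb
  haveI : Fact p.Prime := ⟨hp⟩
  haveI : Fact (Nat.card X).Prime := ⟨hXp⟩
  exact Cfsg.Agent.Lib.Helper58.BG13L.L2 hG hM hpσ hr hPM hPc hXb hX rfl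

end Cfsg.Agent.Lib.Helper87.BG14
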