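/- helper58: piece [D] of helper87's BG14 farm (#848). -/
import Cfsg.Agent.Lib.Helper87.BG14.Defs
import Cfsg.Agent.Lib.Helper58.BG13L

set_option autoImplicit false

namespace Cfsg.Agent.Lib.Helper87.BG14

open Subgroup Cfsg

universe u

variable {G : Type u} [Group G] [Finite G]

theorem l3 (hG : IsMinSimpleOddOrder G) (_h2 : L2 G) (_h135 : L135 G) : L3 G :=
  fun M hM P hPM hP X hX hXp => Cfsg.Agent.Lib.Helper58.BG13L.L3 hG hM hP hPM rfl hXp hX rfl

end Cfsg.Agent.Lib.Helper87.BG14
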