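/- helper31: piece [E] of helper87's BG14 farm (#848): BG 13.12. -/
import Cfsg.Agent.Lib.Helper87.BG14.Defs
import Cfsg.Agent.Lib.Helper58.BG13L
import Cfsg.Agent.Lib.Helper91.BG134
import Cfsg.Agent.Lib.Helper24.BG13U
import Cfsg.Agent.Lib.Helper10.BG124

set_option autoImplicit false
set_option linter.unusedSimpArgs false
set_option linter.unusedVariables false
set_option linter.style.haveILetI false
set_option linter.unusedSectionVars false

namespace Cfsg.Agent.Lib.Helper87.BG14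

open Subgroup Cfsg
open Cfsg.Agent.Lib
open Cfsg.Agent.Lib.Helper24 Cfsg.Agent.Lib.Helper34 Cfsg.Agent.Lib.Helper31.BG11
open Cfsg.Agent.Lib.Helper58.BG139 Cfsg.Agent.Lib.Helper58.BG13L

universe u

variable {G : Type u} [Group G] [Finite G]

theorem l4 (hG : IsMinSimpleOddOrder G) (h3 : L3 G) : L4 G := by
  intro M E hM hE P hPE hp q hq A hAE hAe hAc hAP
  by_contra hD
  set p := Nat.card P with hpdef
  haveI : Fact p.Prime := ⟨hp.1⟩
  haveI : Fact q.Prime := ⟨hq.1⟩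
  have hU := ut hG
  have hPpg : IsPGroup p P := isPGroup_of_card_prime rfl
  have hP1 : P ≠ ⊥ := ne_bot_of_card_prime hp.1 rfl
  have hApg : IsPGroup q A := IsPGroup.of_card (n := 2) hAc
  have hAM : A ≤ M := hAE.trans hE.1
  have hPM : P ≤ M := hPE.trans hE.1
  have hpq : p ≠ q := by
    intro h
    exact hq.2.2.2 (h ▸ hp.2.2.2.2)
  have h17 := Cfsg.Agent.S1417.result hG M hM q hq A ⟨hAM, hAe, hAc⟩
  have h18 := Cfsg.Agent.S1418.result hG M hM E hE q hq A ⟨hAE, hAe, hAc⟩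
  have hPA : P ≤ normalizer (A : Set G) := hPE.trans h18.1.1
  -- every element of `A ∩ C(P)` centralizes `D`
  have key : ∀ a ∈ A, a ∈ centralizer (P : Set G) → a ≠ 1 →
      cs M P ≤ cs M (zpowers a) := by
    intro a ha haP ha1
    have hao : orderOf a = q := orderOf_eq_prime (hAe.2 a ha) ha1
    exact Cfsg.Agent.S1428.result hG M hM E hE p hp P hPE rfl (zpowers a)
      (le_inf (zpowers_le.2 (hAE ha)) (zpowers_le.2 haP)) (by rw [Nat.card_zpowers, hao]; exact hq.1)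
  -- `P` does not centralize `A`
  have hnc : ¬ A ≤ centralizer (P : Set G) := by
    intro hc
    apply hD
    rw [eq_bot_iff, ← h17.2.2.2.1]
    refine le_inf inf_le_left ?_
    rw [le_centralizer_iff]
    intro a ha
    by_cases ha1 : a = 1
    · rw [ha1]; exact one_mem _
    have := (key a ha (hc ha) ha1).trans inf_le_right
    rw [le_centralizer_iff] at this
    exact this (mem_zpowers a)
  -- the subgroup `R`
  obtain ⟨a, haAP, hao⟩ := exists_orderOf_eq_prime (hApg.to_le inf_le_left) hAP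
  have ha1 : a ≠ 1 := by
    rintro rfl
    rw [orderOf_one] at hao
    exact hq.1.one_lt.ne hao
  set R := zpowers a with hR
  have hRc : Nat.card R = q := by rw [hR, Nat.card_zpowers, hao]
  have hRA : R ≤ A := zpowers_le.2 haAP.1
  have hRP : R ≤ centralizer (P : Set G) := zpowers_le.2 haAP.2
  have hDR : cs M R ≠ ⊥ := fun h => hD (le_bot_iff.1 (h ▸ key a haAP.1 haAP.2 ha1))
  obtain ⟨hCRM, hCRu⟩ := h18.2.2 R hRA hRc hDR
  -- the maximal subgroup `L`
  have hA1 : A ≠ ⊥ := fun h => hAP (by rw [h, bot_inf_eq])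
  obtain ⟨L, hL, hNL⟩ := exists_coatom_ge (MS_normalizer_ne_top hG hA1 (MS_isPGroup_ne_top hG hApg))
  have hLM : L ≠ M := by
    rintro rfl
    exact h18.2.1.2.2 hNL
  have hEL : E ≤ L := h18.1.1.trans hNL
  have hAL : A ≤ L := hAE.trans hEL
  have hPL : P ≤ L := hPE.trans hEL
  have hbot : sigmaCore M ⊓ L = ⊥ := h17.2.2.2.2.1 L hL hLM hAL
  have hlt : q ^ 1 < Nat.card A := by
    rw [hAc]
    exact Nat.pow_lt_pow_right hq.1.one_lt (by norm_num)
  have hqL : q ∈ sigma L := by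
    by_contra hqL
    have hqτ : q ∈ tau2 L := by
      by_contra hτ
      exact not_pRankLE_of_le hAL hAe.1 hAe.2 hlt
        (Helper91.BG13.pRankLE_one_of_not hG hL hq.1 hqL hτ)
    obtain ⟨EL, hEL', hAEL⟩ := BG13.exists_compl_ge hG hU hL hAL (fun r hr hd => by
      rw [prime_eq_of_dvd_card hApg hr hd]; exact hqL)
    exact (Cfsg.Agent.S1418.result hG L hL EL hEL' q hqτ A ⟨hAEL, hAe, hAc⟩).2.1.2.2 hNL
  have hqi : ¬ IsIdealPrime q G :=
    (Cfsg.Agent.S1408.result hG M hM q hq.2.1 hq.2.2.1 hq.2.2.2).1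
  have hqb : q ∉ beta L := fun h => hqi h.2
  have hqP : ¬ q ∣ Nat.card P := by
    intro h
    exact hpq ((Nat.prime_dvd_prime_iff_eq hq.1 hp.1).1 h).symm
  have hPL' : ¬ P ≤ ⁅L, L⁆ := by
    intro h
    have := N3 hG hL hqb hAL hApg h hqP hPA
    exact hnc (Subgroup.commutator_eq_bot_iff_le_centralizer.1 this)
  have hpL : p ∉ sigma L := fun h =>
    hPL' ((le_sc hG hU hL h hPL hPpg).trans (Helper10.BG124.sc_le_commutator hG hU hL))
  have hRL : R ≤ sigmaCore L := le_sc hG hU hL hqL (hRA.trans hAL) (hApg.to_le hRA)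
  have hR1 : R ≠ ⊥ := ne_bot_of_card_prime hq.1 hRc
  have hpτ2 : p ∉ tau2 L := by
    intro hτ
    obtain ⟨EL, hEL', hPEL⟩ := BG13.exists_compl_ge hG hU hL hPL (fun r hr hd => by
      rw [prime_eq_of_dvd_card hPpg hr hd]; exact hpL)
    obtain ⟨B, hBE, hBe, hBc⟩ := Helper91.BG13.exists_elemAb_sq_compl hEL' hτ
    have h18L := Cfsg.Agent.S1418.result hG L hL EL hEL' p hτ B ⟨hBE, hBe, hBc⟩
    have hPB : P ≤ B := h18L.1.2 P hPEL rfl
    have hne : sigmaCore L ⊓ centralizer (P : Set G) ≠ ⊥ := by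
      intro h
      apply hR1
      rw [eq_bot_iff, ← h]
      exact le_inf hRL hRP
    have hCP := (h18L.2.2 P hPB rfl hne).1
    apply hD
    rw [eq_bot_iff, ← hbot]
    exact le_inf inf_le_left (inf_le_right.trans hCP)
  have hr1 : PRankLE p 1 L := Helper91.BG13.pRankLE_one_of_not hG hL hp.1 hpL hpτ2
  have hpL' : ¬ p ∣ Nat.card ↥⁅L, L⁆ := by
    intro hd
    obtain ⟨y, hy⟩ := exists_prime_orderOf_dvd_card' (G := ↥⁅L, L⁆) p hd
    have hyo : orderOf (y : G) = p := by rw [Subgroup.orderOf_coe, hy]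
    have hyL : (y : G) ∈ L := (Subgroup.commutator_le_self L) y.2
    have hP'c : Nat.card (zpowers (y : G)) = p := by rw [Nat.card_zpowers, hyo]
    obtain ⟨S, hS, hyS⟩ := exists_isSylowIn_ge (p := p) (L := L) (R := zpowers (y : G))
      (zpowers_le.2 hyL) (isPGroup_of_card_prime hP'c)
    obtain ⟨n, hn, hnP⟩ := hS.exists_conj_le hPL hPpg
    apply hPL'
    intro x hx
    have h1 : n * x * n⁻¹ ∈ S := hnP ⟨x, hx, rfl⟩
    have h2 : (n * x * n⁻¹) ^ p = 1 := by
      rw [conj_pow, Helper24.BG13U.pow_eq_one_of_card_prime (X := P) rfl hx]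
      simp
    have h3 : n * x * n⁻¹ ∈ zpowers (y : G) :=
      Helper24.BG13U.mem_of_pRankLE_one hS.2.1 (pRankLE_mono hS.1 hr1) hyS hP'c h1 h2
    have h4 : n * x * n⁻¹ ∈ ⁅L, L⁆ := (zpowers_le.2 y.2) h3
    exact (mem_normalizer_iff.1 (BG13.le_normalizer_commutator_self L hn) x).2 h4
  have hpτ1 : p ∈ tau1 L :=
    ⟨hp.1, hpL, (hpdef ▸ card_dvd_of_le hPL), hpL', hr1⟩
  have hNR := h3 L hL P hPL hpτ1 R (le_inf hRL hRP) (hRc ▸ hq.1)
  exact hLM (hCRu L hL ((centralizer_le_normalizer' R).trans hNR))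

end Cfsg.Agent.Lib.Helper87.BG14
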