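/-
Bender–Glauberman sections 13-14, piece [N] of bulletin #848 (helper67):
`C_{M_σ}(P)` is a Hall subgroup of `C_G(P)` for `P` of order `p ∈ κ(M)`.
-/
import Cfsg.Agent.Lib.Helper87.BG14.Defs
import Cfsg.Agent.Lib.Helper58.BG139A
import Cfsg.Agent.Lib.Helper9.BG12h
import Cfsg.Agent.Lib.Helper72.BG139E

set_option autoImplicit false
set_option linter.unusedSimpArgs false
set_option linter.unusedVariables false
set_option linter.style.haveILetI false
set_option linter.unusedSectionVars false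

namespace Cfsg.Agent.Lib.Helper87.BG14

universe u

section ByHelper72


open Subgroup Cfsg
open Cfsg.Agent.Lib.Helper34 Cfsg.Agent.Lib.Helper24 Cfsg.Agent.Lib.Helper31.BG11
open Cfsg.Agent.Lib.Helper34.BG13 Cfsg.Agent.Lib.Helper72.BG139


variable {G : Type u} [Group G]

/-- Variant of `Helper72.BG139.hall_inf_of_TI` where `N_G(Y) ≤ M` is only required for the nontrivial
subgroups of prime power order of `B ∩ H₀`. -/
theorem l8g_hall [Finite G] {M B : Subgroup G} (H0 : Subgroup G) (hBM : B ≤ M)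
    (hMB : M ≤ normalizer (B : Set G)) (hBh : (Nat.card B).Coprime (B.relIndex M))
    (hTI : ∀ Y : Subgroup G, Y ≤ B ⊓ H0 → Y ≠ ⊥ → ∀ t : ℕ, t.Prime → IsPGroup t Y →
      normalizer (Y : Set G) ≤ M) :
    (Nat.card (B ⊓ H0 : Subgroup G)).Coprime ((B ⊓ H0).relIndex H0) := by
  by_contra hnc
  obtain ⟨r, hr, hr1, hr2⟩ := Nat.Prime.not_coprime_iff_dvd.1 hnc
  haveI : Fact r.Prime := ⟨hr⟩
  obtain ⟨R1, hR1, -⟩ := exists_isSylowIn_ge (p := r) (L := B ⊓ H0) (R := ⊥) bot_le
    IsPGroup.of_bot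
  obtain ⟨R2, hR2, hR12⟩ := exists_isSylowIn_ge (p := r) (L := H0) (R := R1)
    (hR1.1.trans inf_le_right) hR1.2.1
  have hR1ne : R1 ≠ ⊥ := by
    rintro rfl
    have h1 := hR1.card_eq
    rw [Subgroup.card_bot] at h1
    have h2 : (Nat.card (B ⊓ H0 : Subgroup G)).factorization r ≠ 0 := by
      have := (hr.factorization_pos_of_dvd Nat.card_pos.ne' hr1)
      omega
    exact (Nat.one_lt_pow h2 hr.one_lt).ne h1
  have hne : R1 ≠ R2 := by
    rintro rfl
    apply hR2.2.2
    rw [← Subgroup.relIndex_mul_relIndex R1 (B ⊓ H0) H0 hR1.1 inf_le_right]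
    exact Dvd.dvd.mul_left hr2 _
  obtain ⟨x, hx2, hxN, hx1⟩ := Cfsg.Agent.Lib.Lead.exists_mem_normalizer_not_mem hR2.2.1
    (lt_of_le_of_ne hR12 hne)
  have hxM : x ∈ M := hTI R1 hR1.1 hR1ne r hr hR1.2.1 hxN
  set R3 : Subgroup G := R1 ⊔ Subgroup.zpowers x with hR3
  have hR32 : R3 ≤ R2 := sup_le hR12 ((Subgroup.zpowers_le).2 hx2)
  have hR3p : IsPGroup r R3 := hR2.2.1.to_le hR32
  have hR3M : R3 ≤ M :=
    sup_le (hR1.1.trans (inf_le_left.trans hBM)) ((Subgroup.zpowers_le).2 hxM)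
  have hR3B : R3 ≤ B := by
    refine le_normal_hall hBM hR3M hMB hBh ?_
    obtain ⟨k, hk⟩ := IsPGroup.iff_card.1 hR3p
    rw [hk]
    refine Nat.Coprime.pow_left k ((Nat.Prime.coprime_iff_not_dvd hr).2 fun h' => ?_)
    exact hr.one_lt.ne' (Nat.eq_one_of_dvd_coprimes hBh
      (hr1.trans (Subgroup.card_dvd_of_le inf_le_left)) h')
  have heq : R1 = R3 := hR1.eq_of_le (le_inf hR3B (hR32.trans hR2.1)) hR3p le_sup_left
  apply hx1
  rw [heq]
  exact (le_sup_right : Subgroup.zpowers x ≤ R3) (Subgroup.mem_zpowers x)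

/-- `M` has `p`-rank at most one for `p ∈ κ(M)`. -/
theorem l8g_kappa_rank [Finite G] {M : Subgroup G} {p : ℕ} (hp : p ∈ kappa M) : PRankLE p 1 M := by
  haveI : Fact p.Prime := ⟨hp.1⟩
  have S : Sylow p M := default
  haveI := (hp.2.2.2 S).1
  have hS := Sylow.isSylowIn_map S
  refine pRankLE_of_isSylowIn hS ?_
  haveI : IsCyclic ((S : Subgroup M).map M.subtype) :=
    isCyclic_of_surjective ((S : Subgroup M).equivMapOfInjective M.subtype M.subtype_injective)
      ((S : Subgroup M).equivMapOfInjective M.subtype M.subtype_injective).surjective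
  exact pRankLE_one_of_isCyclic hp.1.pos

/-- The normalizer of a nontrivial cyclic `t`-group normalizes its subgroup of order `t`. -/
theorem l8g_normalizer_le [Finite G] {t : ℕ} [ht : Fact t.Prime] {Y X : Subgroup G}
    (hY : IsPGroup t Y) (hYc : IsCyclic Y) (hXY : X ≤ Y) (hXc : Nat.card X = t) :
    normalizer (Y : Set G) ≤ normalizer (X : Set G) := by
  intro g hg
  have hom := mem_of_rank_one hY (pRankLE_one_of_isCyclic ht.out.pos) hXc hXY
  have h1 : cj g X ≤ X := by
    intro x hx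
    have hxY : x ∈ Y := by
      have h2 : cj g X ≤ cj g Y := cj_mono g hXY
      rw [show cj g Y = Y from map_conj_eq_self_of_mem_normalizer hg] at h2
      exact h2 hx
    refine hom x hxY ?_
    have h3 : (⟨x, hx⟩ : cj g X) ^ Nat.card (cj g X) = 1 := pow_card_eq_one'
    rw [show Nat.card (cj g X) = t from (card_map_conj g X).trans hXc] at h3
    exact congrArg Subtype.val h3
  have h2 : cj g X = X :=
    Subgroup.eq_of_le_of_card_ge h1 (by rw [show Nat.card (cj g X) = Nat.card X from card_map_conj g X])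
  exact mem_normalizer_of_map_conj_eq h2

end ByHelper72

section ByHelper67

open Subgroup Cfsg
open Cfsg.Agent.Lib
open Cfsg.Agent.Lib.Helper24 Cfsg.Agent.Lib.Helper34 Cfsg.Agent.Lib.Helper31.BG11
open Cfsg.Agent.Lib.Helper34.BG13


variable {G : Type u} [Group G] [Finite G]

theorem l8g_rank_one {L : Subgroup G} {p : ℕ} (h : p ∈ kappa L) : PRankLE p 1 L := by
  haveI : Fact p.Prime := ⟨h.1⟩
  obtain ⟨P⟩ : Nonempty (Sylow p L) := inferInstance
  haveI := (h.2.2.2 P).1
  haveI : IsCyclic ↥((P : Subgroup L).map L.subtype) :=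
    isCyclic_of_surjective (L.subtype.subgroupMap (P : Subgroup L))
      (MonoidHom.subgroupMap_surjective _ _)
  exact pRankLE_of_isSylowIn (Sylow.isSylowIn_map P) (pRankLE_one_of_isCyclic h.1.pos)

theorem l8g (hG : IsMinSimpleOddOrder G) (h1 : L1 G) (h6 : L6 G) : L8g G := by
  intro M hM P hPM hκ
  have hU : UT G := Helper58.BG139.ut hG
  have hpp : (Nat.card P).Prime := hκ.1
  haveI : Fact (Nat.card P).Prime := ⟨hpp⟩
  have hPpg : IsPGroup (Nat.card P) P := IsPGroup.of_card (n := 1) (by rw [pow_one])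
  have hP1 : P ≠ ⊥ := by
    intro h
    rw [h, card_bot] at hpp
    exact Nat.not_prime_one hpp
  obtain ⟨H, hH, hNH⟩ := exists_coatom_ge (MS_normalizer_ne_top hG hP1 (MS_isPGroup_ne_top hG hPpg))
  obtain ⟨-, -, -, h6d⟩ := h6 M hM P hPM hκ H hH hNH
  apply Nat.coprime_of_dvd
  intro t ht htD htI
  haveI : Fact t.Prime := ⟨ht⟩
  have htσ : t ∈ sigma M := sc_primes M ht (htD.trans (Subgroup.card_dvd_of_le inf_le_left))
  obtain ⟨T, hT, -⟩ := exists_isSylowIn_ge (bot_le : (⊥ : Subgroup G) ≤ cs M P)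
    (IsPGroup.of_bot (p := t))
  have hTcyc : IsCyclic T :=
    h1 M hM (Nat.card P) hpp hκ.2.2.1 (l8g_rank_one hκ) P hPM rfl t T ht hT.2.1 hT.1
  -- `T ≠ ⊥`
  have htT : t ∣ Nat.card T := by
    by_contra hcon
    apply hT.2.2
    have h2 := Helper23.card_mul_relIndex hT.1
    rw [← h2] at htD
    exact (ht.dvd_mul.1 htD).resolve_left hcon
  obtain ⟨X, hXT, hXc⟩ := Helper9.BG12.exists_card_prime_le ht htT
  have hNX : normalizer (X : Set G) ≤ M :=
    (h6d X (hXT.trans hT.1) (by rw [hXc]; exact ht)).1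
  -- `T` is a Sylow subgroup of `C_M(P)`
  have hTD' : IsSylowIn t T (M ⊓ centralizer (P : Set G)) := by
    obtain ⟨T', hT', hTT'⟩ := exists_isSylowIn_ge
      (hT.1.trans (inf_le_inf_right _ (sc_le M))) hT.2.1
    have h2 : T' ≤ cs M P :=
      le_inf (le_sc hG hU hM htσ (hT'.1.trans inf_le_left) hT'.2.1) (hT'.1.trans inf_le_right)
    have h3 := hT.eq_of_le h2 hT'.2.1 hTT'
    rw [h3]
    exact hT'
  have hTC : IsSylowIn t T (centralizer (P : Set G)) := by
    apply Helper9.BG12.isSylowIn_of_normalizer_le hTD' inf_le_right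
    intro y hy
    exact ⟨hNX (Helper9.BG12.normalizer_le_normalizer_of_isCyclic hTcyc hXT hy.2), hy.1⟩
  apply hTC.2.2
  rw [← relIndex_mul_relIndex T (cs M P) _ hT.1 inf_le_right]
  exact Dvd.dvd.mul_left htI _

end ByHelper67

end Cfsg.Agent.Lib.Helper87.BG14
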