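/- helper31: piece [F] of helper87's BG14 farm (#848): BG 14.2(b), second part (13.13). -/
import Cfsg.Agent.Lib.Helper87.BG14.Defs
import Cfsg.Agent.Lib.Helper87.BG14.L8g
import Cfsg.Agent.Lib.Helper58.BG13L
import Cfsg.Agent.Lib.Helper91.BG134
import Cfsg.Agent.Lib.Helper91.BG11P2
import Cfsg.Agent.Lib.Helper24.BG13U
import Cfsg.Agent.Lib.Helper24.BG13BC
import Cfsg.Agent.Lib.Helper24.BG13F
import Cfsg.Agent.Lib.Helper1.BG1211Q5

set_option autoImplicit false
set_option linter.unusedSimpArgs false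
set_option linter.unusedVariables false
set_option linter.style.haveILetI false
set_option linter.unusedSectionVars false

namespace Cfsg.Agent.Lib.Helper87.BG14

open Subgroup Cfsg
open Cfsg.Agent.Lib
open Cfsg.Agent.Lib.Helper24 Cfsg.Agent.Lib.Helper34 Cfsg.Agent.Lib.Helper31.BG11
open Cfsg.Agent.Lib.Helper58.BG139 Cfsg.Agent.Lib.Helper58.BG13L
open scoped commutatorElement

universe u

variable {G : Type u} [Group G] [Finite G]

/-- `C_{M_σ}(P) ≠ 1` for every subgroup `P` of `M` of order `p ∈ κ(M)`. -/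
theorem l5_cs_ne_bot {M P : Subgroup G} (hPM : P ≤ M) (hκ : Nat.card P ∈ kappa M) :
    cs M P ≠ ⊥ := by
  set p := Nat.card P with hpdef
  haveI : Fact p.Prime := ⟨hκ.1⟩
  have hPpg : IsPGroup p P := isPGroup_of_card_prime rfl
  obtain ⟨S, hS, hPS⟩ := exists_isSylowIn_ge hPM hPpg
  obtain ⟨-, x, hxS, hx1, y, hy, hy1, hxy⟩ := hκ.2.2.2 hS.toSylow
  rw [← SetLike.mem_coe, hS.coe_toSylow] at hxS
  have hxS' : (x : G) ∈ S := Subgroup.mem_subgroupOf.1 hxS
  have hz1 : zpowers (x : G) ≠ ⊥ := by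
    intro h
    apply hx1
    have : (x : G) = 1 := (Subgroup.zpowers_eq_bot).1 h
    exact Subtype.ext this
  have hzS : zpowers (x : G) ≤ S := (Subgroup.zpowers_le).2 hxS'
  obtain ⟨w, hw, hwo⟩ := exists_orderOf_eq_prime (hS.2.1.to_le hzS) hz1
  have hRc : Nat.card (zpowers w) = p := by rw [Nat.card_zpowers, hwo]
  have hrk : PRankLE p 1 S := pRankLE_mono hS.1 (l8g_kappa_rank hκ)
  intro hbot
  apply hy1
  have hyc : y ∈ cs M P := by
    refine Subgroup.mem_inf.2 ⟨hy, ?_⟩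
    rw [Subgroup.mem_centralizer_iff]
    intro z hz
    have hz' : z ∈ zpowers w :=
      Helper24.BG13U.mem_of_pRankLE_one hS.2.1 hrk ((zpowers_le.2 hw).trans hzS) hRc (hPS hz)
        (Helper24.BG13U.pow_eq_one_of_card_prime (X := P) rfl hz)
    obtain ⟨k, rfl⟩ := Subgroup.mem_zpowers_iff.1 ((zpowers_le.2 hw) hz')
    exact ((Commute.zpow_left (show Commute (x : G) y from hxy) k)).eq
  rw [hbot] at hyc
  exact Subgroup.mem_bot.1 hyc

/-- A prime `p ∉ σ(L)` of rank one with a subgroup of order `p` outside `L'` lies in `τ₁(L)`. -/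
theorem l5_tau1_of_not_le {L P : Subgroup G} {p : ℕ} [hp : Fact p.Prime] (hpL : p ∉ sigma L)
    (hr1 : PRankLE p 1 L) (hPL : P ≤ L) (hPc : Nat.card P = p) (hPL' : ¬ P ≤ ⁅L, L⁆) :
    p ∈ tau1 L := by
  have hPpg : IsPGroup p P := isPGroup_of_card_prime hPc
  refine ⟨hp.out, hpL, hPc ▸ card_dvd_of_le hPL, ?_, hr1⟩
  intro hd
  obtain ⟨y, hy⟩ := exists_prime_orderOf_dvd_card' (G := ↥⁅L, L⁆) p hd
  have hyo : orderOf (y : G) = p := by rw [Subgroup.orderOf_coe, hy]
  have hyL : (y : G) ∈ L := (Subgroup.commutator_le_self L) y.2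
  have hP'c : Nat.card (zpowers (y : G)) = p := by rw [Nat.card_zpowers, hyo]
  obtain ⟨S, hS, hyS⟩ := exists_isSylowIn_ge (p := p) (L := L) (R := zpowers (y : G))
    (zpowers_le.2 hyL) (isPGroup_of_card_prime hP'c)
  obtain ⟨n, hn, hnP⟩ := hS.exists_conj_le hPL hPpg
  apply hPL'
  intro x hx
  have h1 : n * x * n⁻¹ ∈ S := hnP ⟨x, hx, rfl⟩
  have h2 : (n * x * n⁻¹) ^ p = 1 := by
    rw [conj_pow, Helper24.BG13U.pow_eq_one_of_card_prime (X := P) hPc hx]
    simp
  have h3 : n * x * n⁻¹ ∈ zpowers (y : G) :=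
    Helper24.BG13U.mem_of_pRankLE_one hS.2.1 (pRankLE_mono hS.1 hr1) hyS hP'c h1 h2
  have h4 : n * x * n⁻¹ ∈ ⁅L, L⁆ := (zpowers_le.2 y.2) h3
  exact (mem_normalizer_iff.1 (BG13.le_normalizer_commutator_self L hn) x).2 h4

theorem l5 (hG : IsMinSimpleOddOrder G) (h4 : L4 G) : L5 G := by
  intro M hM P hPM hκ H hH hNH
  by_contra hpH
  have hD : cs M P ≠ ⊥ := l5_cs_ne_bot hPM hκ
  have hr1 : PRankLE (Nat.card P) 1 M := l8g_kappa_rank hκ
  set p := Nat.card P with hpdef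
  have hp : p.Prime := hκ.1
  haveI : Fact p.Prime := ⟨hp⟩
  have hU := ut hG
  have hpσ : p ∉ sigma M := hκ.2.2.1
  have hPpg : IsPGroup p P := isPGroup_of_card_prime rfl
  have hP1 : P ≠ ⊥ := ne_bot_of_card_prime hp rfl
  have hPH : P ≤ H := le_normalizer.trans hNH
  have h09 := Cfsg.Agent.S1409.result hG H hH p hpH P rfl hNH
  have hpτ : p ∈ tau2 H := ⟨hp, hpH, h09.1.1, h09.1.2⟩
  obtain ⟨Y, q, hq, hYc, hqd, hYle⟩ := Helper72.BG139.exists_prime_card_le hD
  haveI : Fact q.Prime := ⟨hq⟩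
  have hYpg : IsPGroup q Y := isPGroup_of_card_prime hYc
  have hY1 : Y ≠ ⊥ := ne_bot_of_card_prime hq hYc
  have hqσ : q ∈ sigma M := sc_primes M hq (hqd.trans (card_dvd_of_le inf_le_left))
  have hYM : Y ≤ M := (hYle.trans inf_le_left).trans (sc_le M)
  have hYP : Y ≤ centralizer (P : Set G) := hYle.trans inf_le_right
  have hPY : P ≤ centralizer (Y : Set G) := le_centralizer_iff.1 hYP
  have hYH : Y ≤ H := hYP.trans ((centralizer_le_normalizer' P).trans hNH)
  have hpq : p ≠ q := fun h => hpσ (h ▸ hqσ)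
  have hqH : q ∉ sigma H := by
    intro h
    obtain ⟨g, hg⟩ := h1378 hG M H hM hH ⟨q, hqσ, h⟩
    apply h09.1.2
    rw [hg]
    exact pRankLE_cj g hr1
  -- a complement of `H_σ` containing `P` and `Y`
  have hYnP : Y ≤ normalizer (P : Set G) := hYP.trans (centralizer_le_normalizer' P)
  obtain ⟨E, hE, hYPE⟩ := BG13.exists_compl_ge hG hU hH (sup_le hYH hPH) (fun r hr hd => by
    rcases Helper24.BG13BC.prime_dvd_card_sup hYnP hr hd with h | h
    · rw [prime_eq_of_dvd_card hYpg hr h]; exact hqH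
    · rw [prime_eq_of_dvd_card hPpg hr h]; exact hpH)
  have hYE : Y ≤ E := le_sup_left.trans hYPE
  have hPE : P ≤ E := le_sup_right.trans hYPE
  obtain ⟨A, hAE, hAe, hAc⟩ := Helper91.BG13.exists_elemAb_sq_compl hE hpτ
  have h18 := Cfsg.Agent.S1418.result hG H hH E hE p hpτ A ⟨hAE, hAe, hAc⟩
  have hPA : P ≤ A := h18.1.2 P hPE rfl
  have hApg : IsPGroup p A := IsPGroup.of_card (n := 2) hAc
  have hAH : A ≤ H := hAE.trans hE.1
  have hYA : Y ≤ normalizer (A : Set G) := hYE.trans h18.1.1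
  have hlt : p ^ 1 < Nat.card A := by
    rw [hAc]
    exact Nat.pow_lt_pow_right hp.one_lt (by norm_num)
  -- `Y` does not centralize `A`
  have hnc : ¬ A ≤ centralizer (Y : Set G) := by
    intro hc
    obtain ⟨L, hL, hNL⟩ :=
      exists_coatom_ge (MS_normalizer_ne_top hG hY1 (MS_isPGroup_ne_top hG hYpg))
    have hCL : centralizer (Y : Set G) ≤ L := (centralizer_le_normalizer' Y).trans hNL
    have hAL : A ≤ L := hc.trans hCL
    by_cases hLM : L = M
    · exact not_pRankLE_of_le (hLM ▸ hAL) hAe.1 hAe.2 hlt hr1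
    obtain ⟨-, hcompl⟩ := Helper91.BG13.tau2_compl hG (h1378 hG) hM hL hLM hqσ hYpg hY1 hYM hNL
    have hPML : P ≤ M ⊓ L := le_inf hPM (hPY.trans hCL)
    have hpL : p ∉ sigma L := BG13.compl_not_sigma hG hU hL hcompl hp (card_dvd_of_le hPML)
    obtain ⟨S, hS, -⟩ := exists_isSylowIn_ge hPML hPpg
    have hSL : IsSylowIn p S L := BG13.compl_sylow hcompl hpL hS
    exact not_pRankLE_of_le hAL hAe.1 hAe.2 hlt
      (pRankLE_of_isSylowIn hSL (pRankLE_mono (hS.1.trans inf_le_left) hr1))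
  -- `q ∈ τ₁(H)`
  have hpG : p ∣ Nat.card G := (card_dvd_of_le (le_top : P ≤ ⊤)).trans (by rw [Subgroup.card_top])
  obtain ⟨M0, hM0, hpM0⟩ := exists_sigma hG hp hpG
  have hnconj : ∀ g, M0 ≠ cj g H := by
    intro g hg
    rw [hg] at hpM0
    exact hpH ((sigma_cj_iff g).1 hpM0)
  have hact : ⁅A, Y⁆ ≠ ⊥ := fun h => hnc (Subgroup.commutator_eq_bot_iff_le_centralizer.1 h)
  obtain ⟨-, hYH', hqr1⟩ := Helper24.BG13BC.star_cor hG hH hM0 hnconj hpM0 (Ne.symm hpq) hAH hApg hYH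
    hYc hYA hact
  have hqτ : q ∈ tau1 H := l5_tau1_of_not_le hqH hqr1 hYH hYc hYH'
  -- 13.12
  have hAY : A ⊓ centralizer (Y : Set G) ≠ ⊥ := by
    intro h
    apply hP1
    rw [eq_bot_iff, ← h]
    exact le_inf hPA hPY
  have hreg : cs H Y = ⊥ := h4 H E hH hE Y hYE (hYc.symm ▸ hqτ) p hpτ A hAE hAe hAc hAY
  -- `A ∩ C(Y) = P`
  have hB : A ⊓ centralizer (Y : Set G) = P := by
    symm
    apply Subgroup.eq_of_le_of_card_ge (le_inf hPA hPY)
    have hd : Nat.card ↥(A ⊓ centralizer (Y : Set G)) ∣ p ^ 2 := hAc ▸ card_dvd_of_le inf_le_left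
    obtain ⟨k, hk, hk'⟩ := (Nat.dvd_prime_pow hp).1 hd
    have hk2 : k ≠ 2 := by
      rintro rfl
      apply hnc
      have : A ⊓ centralizer (Y : Set G) = A :=
        Subgroup.eq_of_le_of_card_ge inf_le_left (by rw [hk', hAc])
      rw [← this]
      exact inf_le_right
    rw [hk']
    calc p ^ k ≤ p ^ 1 := Nat.pow_le_pow_right hp.pos (by omega)
      _ = Nat.card P := by rw [pow_one]
  have hA1 : A ≠ ⊥ := fun h => hAY (by rw [h, bot_inf_eq])
  have hNAtop : normalizer (A : Set G) ≠ ⊤ := MS_normalizer_ne_top hG hA1 (MS_isPGroup_ne_top hG hApg)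
  have hp2 : p ≠ 2 := MS_prime_ne_two hG (H := P) (dvd_refl _)
  apply h18.2.1.2.2
  rcases Helper1.BG1211.line_or_abelian hp2 hAe hAc (le_refl (normalizer (A : Set G)))
    (MS_odd hG _) (MS_solvable hG hNAtop) with ⟨A', hA'A, hA'c, hNA'⟩ | hab
  · have hYA' : Y ≤ normalizer (A' : Set G) := hYA.trans hNA'
    by_cases hcA' : A' ≤ centralizer (Y : Set G)
    · have hA'P : A' = P :=
        Subgroup.eq_of_le_of_card_ge (hB ▸ le_inf hA'A hcA') (by rw [hA'c])
      rw [hA'P] at hNA'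
      exact hNA'.trans hNH
    · have hinf : A' ⊓ centralizer (Y : Set G) = ⊥ :=
        Helper24.BG13U.inf_eq_bot_of_card_prime hp hA'c hcA'
      have hA'1 : A' ≠ ⊥ := ne_bot_of_card_prime hp hA'c
      have hA'pg : IsPGroup p A' := isPGroup_of_card_prime hA'c
      have hcop : (Nat.card (sigmaCore H)).Coprime (Nat.card ↥(A' ⊔ Y)) := by
        refine Nat.coprime_of_dvd fun r hr h1 h2 => ?_
        have hrσ : r ∈ sigma H := sc_primes H hr h1
        rw [sup_comm] at h2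
        rcases Helper24.BG13BC.prime_dvd_card_sup hYA' hr h2 with h | h
        · rw [prime_eq_of_dvd_card hYpg hr h] at hrσ; exact hqH hrσ
        · rw [prime_eq_of_dvd_card hA'pg hr h] at hrσ; exact hpH hrσ
      have hcent : sigmaCore H ≤ centralizer (A' : Set G) :=
        Helper24.BG13F.frob_centralizes hA'1 hY1 hYA' (Helper24.BG13BC.fpf_of_inf hq hYc hinf)
          ((hA'A.trans hAH).trans (sc_norm H)) (hYH.trans (sc_norm H))
          (MS_solvable hG (ne_top_of_le_ne_top hH.1 (sc_le H))) hcop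
          (by rw [show sigmaCore H ⊓ centralizer (Y : Set G) = ⊥ from hreg]; exact bot_le)
      have hne : sigmaCore H ⊓ centralizer (A' : Set G) ≠ ⊥ := by
        rw [inf_eq_left.2 hcent]
        exact Helper91.BG11P2.sc_ne_bot hG hU hH
      obtain ⟨-, huniq⟩ := h18.2.2 A' hA'A hA'c hne
      obtain ⟨L, hL, hNL⟩ :=
        exists_coatom_ge (MS_normalizer_ne_top hG hA'1 (MS_isPGroup_ne_top hG hA'pg))
      have hLH : L = H := huniq L hL ((centralizer_le_normalizer' A').trans hNL)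
      exact hNA'.trans (hLH ▸ hNL)
  · -- `N(A)` acts as an abelian group on `A`, so it normalizes `C_A(Y) = P`
    refine le_trans ?_ hNH
    intro g hg
    have aux : ∀ g ∈ normalizer (A : Set G), ∀ a ∈ P, g * a * g⁻¹ ∈ P := by
      intro g hg a ha
      rw [← hB]
      have haA : a ∈ A := hPA ha
      have hgaA : g * a * g⁻¹ ∈ A := (mem_normalizer_iff.1 hg a).1 haA
      refine mem_inf.2 ⟨hgaA, ?_⟩
      rw [mem_centralizer_iff]
      intro y hy
      have hyN : y ∈ normalizer (A : Set G) := hYA hy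
      have hc : ⁅g⁻¹, y⁆ ∈ centralizer (A : Set G) :=
        hab (Subgroup.commutator_mem_commutator (inv_mem hg) hyN)
      have hca : ⁅g⁻¹, y⁆ * (y * a * y⁻¹) = (y * a * y⁻¹) * ⁅g⁻¹, y⁆ :=
        ((mem_centralizer_iff.1 hc) _ ((mem_normalizer_iff.1 hyN a).1 haA)).symm
      have hya : y * a = a * y := (mem_centralizer_iff.1 (hPY ha) y hy)
      have hya' : y * a * y⁻¹ = a := by rw [hya]; group
      rw [hya'] at hca
      -- `g⁻¹ y g = ⁅g⁻¹, y⁆ y`
      have e1 : y * (g * a * g⁻¹) = g * (⁅g⁻¹, y⁆ * (y * a)) * g⁻¹ := by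
        rw [commutatorElement_def]; group
      have e2 : g * a * g⁻¹ * y = g * (a * ⁅g⁻¹, y⁆ * y) * g⁻¹ := by
        rw [commutatorElement_def]; group
      rw [e1, e2, hya, ← mul_assoc ⁅g⁻¹, y⁆ a y, hca]
    rw [mem_normalizer_iff]
    intro a
    refine ⟨aux g hg a, fun h => ?_⟩
    have := aux g⁻¹ (inv_mem hg) _ h
    simpa [mul_assoc] using this

end Cfsg.Agent.Lib.Helper87.BG14
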