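/-
Piece [G] of helper87's BG14 farm (bulletin #848): `l6 : L6 G` from `L5 G`.  (helper21)
-/
import Cfsg.Agent.Lib.Helper87.BG14.Defs
import Cfsg.Agent.Lib.Helper58.BG13L
import Cfsg.Agent.Lib.Helper24.BG13BC
import Cfsg.Agent.Lib.Helper91.BG134
import Cfsg.Agent.Lib.Helper91.BG1216e
import Cfsg.Agent.Lib.Helper34.BG16a
import Cfsg.Agent.S1378
import Cfsg.Agent.S1418

set_option autoImplicit false
set_option linter.unusedSimpArgs false
set_option linter.unusedVariables false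
set_option linter.style.haveILetI false
set_option linter.unusedSectionVars false

namespace Cfsg.Agent.Lib.Helper87.BG14

open Subgroup Cfsg
open Cfsg.Agent.Lib
open Cfsg.Agent.Lib.Helper24 Cfsg.Agent.Lib.Helper34 Cfsg.Agent.Lib.Helper31.BG11

universe u

variable {G : Type u} [Group G] [Finite G]

namespace PieceG

variable {M P H : Subgroup G}

/-- `σ(M) ∩ σ(H) = ∅` -/
theorem sigma_disj (hG : IsMinSimpleOddOrder G) (h5 : L5 G) (hM : IsCoatom M) (hPM : P ≤ M)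
    (hP : Nat.card P ∈ kappa M) (hH : IsCoatom H) (hN : normalizer (P : Set G) ≤ H) :
    ∀ q, q ∈ sigma M → q ∉ sigma H := by
  intro q hqM hqH
  obtain ⟨g, hg⟩ := (Cfsg.Agent.S1378.result hG).2 M H hM hH ⟨q, hqM, hqH⟩
  have h1 : Nat.card P ∈ sigma H := h5 M hM P hPM hP H hH hN
  rw [hg] at h1
  exact hP.2.2.1 ((sigma_cj_iff g).1 h1)

theorem P_le_sc (hG : IsMinSimpleOddOrder G) (h5 : L5 G) (hM : IsCoatom M) (hPM : P ≤ M)
    (hP : Nat.card P ∈ kappa M) (hH : IsCoatom H) (hN : normalizer (P : Set G) ≤ H) :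
    P ≤ sigmaCore H := by
  haveI : Fact (Nat.card P).Prime := ⟨hP.1⟩
  exact le_of_normal_of_not_dvd (sc_le H) (sc_norm H)
    ((sc_hall hG (BG13BC.ut hG) hH).2.2 _ hP.1 (h5 M hM P hPM hP H hH hN))
    (le_normalizer.trans hN) (BG13BC.isPGroup_of_card_prime rfl)

theorem sc_inf_sc (disj : ∀ q, q ∈ sigma M → q ∉ sigma H) : sigmaCore M ⊓ sigmaCore H = ⊥ :=
  (Subgroup.disjoint_of_coprime_natCard (Nat.coprime_of_dvd fun k hk h1 h2 =>
    disj k (sc_primes M hk h1) (sc_primes H hk h2))).eq_bot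

/-- (a) `M_σ ∩ H = C_{M_σ}(P)` -/
theorem partA (hG : IsMinSimpleOddOrder G) (h5 : L5 G) (hM : IsCoatom M) (hPM : P ≤ M)
    (hP : Nat.card P ∈ kappa M) (hH : IsCoatom H) (hN : normalizer (P : Set G) ≤ H) :
    sigmaCore M ⊓ H = cs M P := by
  have disj := sigma_disj hG h5 hM hPM hP hH hN
  apply le_antisymm
  · intro y hy
    obtain ⟨hyM, hyH⟩ := mem_inf.1 hy
    refine mem_inf.2 ⟨hyM, ?_⟩
    rw [mem_centralizer_iff]
    intro w hw
    have hwσ : w ∈ sigmaCore H := P_le_sc hG h5 hM hPM hP hH hN hw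
    have hwM : w ∈ M := hPM hw
    have h1 : y * w * y⁻¹ * w⁻¹ ∈ sigmaCore M := by
      have h : w * y⁻¹ * w⁻¹ ∈ sigmaCore M :=
        (mem_normalizer_iff.1 (sc_norm M hwM) y⁻¹).1 (inv_mem hyM)
      have e : y * w * y⁻¹ * w⁻¹ = y * (w * y⁻¹ * w⁻¹) := by group
      rw [e]; exact mul_mem hyM h
    have h2 : y * w * y⁻¹ * w⁻¹ ∈ sigmaCore H :=
      mul_mem ((mem_normalizer_iff.1 (sc_norm H hyH) w).1 hwσ) (inv_mem hwσ)
    have h3 : y * w * y⁻¹ * w⁻¹ ∈ sigmaCore M ⊓ sigmaCore H := mem_inf.2 ⟨h1, h2⟩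
    rw [sc_inf_sc disj, mem_bot] at h3
    have h4 : y * w = w * y := by
      have := congrArg (· * (w * y)) h3
      simpa [mul_assoc] using this
    exact h4.symm
  · intro y hy
    exact mem_inf.2 ⟨(mem_inf.1 hy).1, hN (centralizer_le_normalizer _ (mem_inf.1 hy).2)⟩

/-- (b) the primes of `C_{M_σ}(P)` lie in `κ(H)` -/
theorem partB (hG : IsMinSimpleOddOrder G) (h5 : L5 G) (hM : IsCoatom M) (hPM : P ≤ M)
    (hP : Nat.card P ∈ kappa M) (hH : IsCoatom H) (hN : normalizer (P : Set G) ≤ H)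
    {q : ℕ} (hq : q.Prime) (hqd : q ∣ Nat.card (cs M P)) : q ∈ kappa H := by
  haveI : Fact q.Prime := ⟨hq⟩
  have disj := sigma_disj hG h5 hM hPM hP hH hN
  have hqM : q ∈ sigma M := sc_primes M hq (hqd.trans (card_dvd_of_le inf_le_left))
  have hqH : q ∉ sigma H := disj q hqM
  obtain ⟨x, hx⟩ := exists_prime_orderOf_dvd_card' (G := cs M P) q hqd
  have hxo : orderOf (x : G) = q := by rw [Subgroup.orderOf_coe, hx]
  have hxMs : (x : G) ∈ sigmaCore M := (mem_inf.1 x.2).1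
  have hxC : (x : G) ∈ centralizer (P : Set G) := (mem_inf.1 x.2).2
  have hxH : (x : G) ∈ H := hN (centralizer_le_normalizer _ hxC)
  obtain ⟨y, hyP, hy1⟩ := exists_ne_one_of_card_prime hP.1 rfl
  have hyσ : y ∈ sigmaCore H := P_le_sc hG h5 hM hPM hP hH hN hyP
  have hxy : (x : G) * y = y * x := (mem_centralizer_iff.1 hxC y hyP).symm
  have hrank : PRankLE q 1 H := by
    apply Helper91.BG13.pRankLE_one_of_not hG hH hq hqH
    intro hτ
    have hQc : Nat.card (zpowers (x : G)) = q := by rw [Nat.card_zpowers, hxo]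
    have hQH : zpowers (x : G) ≤ H := zpowers_le.2 hxH
    have hQM : zpowers (x : G) ≤ M := zpowers_le.2 (sc_le M hxMs)
    have hQpg : IsPGroup q (zpowers (x : G)) := BG13BC.isPGroup_of_card_prime hQc
    have hQ1 : zpowers (x : G) ≠ ⊥ := BG13BC.ne_bot_of_card_prime hq hQc
    obtain ⟨E, hE, hQE⟩ := BG13.exists_compl_ge hG (BG13BC.ut hG) hH hQH (fun r hr hrd => by
      rw [hQc] at hrd
      rw [(Nat.prime_dvd_prime_iff_eq hr hq).1 hrd]
      exact hqH)
    obtain ⟨A, hAE, hAe, hAc⟩ := Helper91.BG13.exists_elemAb_sq_compl hE hτ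
    have h18 := Cfsg.Agent.S1418.result hG H hH E hE q hτ A ⟨hAE, hAe, hAc⟩
    have hQA : zpowers (x : G) ≤ A := h18.1.2 _ hQE hQc
    have hne : sigmaCore H ⊓ centralizer ((zpowers (x : G) : Subgroup G) : Set G) ≠ ⊥ := by
      intro h
      apply hy1
      have : y ∈ sigmaCore H ⊓ centralizer ((zpowers (x : G) : Subgroup G) : Set G) := by
        refine mem_inf.2 ⟨hyσ, ?_⟩
        rw [mem_centralizer_iff]
        rintro _ ⟨k, rfl⟩
        have hc : Commute (x : G) y := hxy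
        exact (hc.zpow_left k).eq
      rwa [h, mem_bot] at this
    obtain ⟨-, huniq⟩ := h18.2.2 _ hQA hQc hne
    obtain ⟨L, hL, hNL⟩ := exists_coatom_ge (MS_normalizer_ne_top hG hQ1 (MS_isPGroup_ne_top hG hQpg))
    have hLH : L = H := huniq L hL ((centralizer_le_normalizer _).trans hNL)
    have hHM : H ≠ M := by
      rintro rfl
      exact hqH hqM
    rw [hLH] at hNL
    have h := (Helper91.BG13.tau2_compl hG (Cfsg.Agent.S1378.result hG).2 hM hH hHM hqM hQpg hQ1 hQM hNL).2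
    have hy : y ∈ (M ⊓ H) ⊓ sigmaCore H :=
      mem_inf.2 ⟨mem_inf.2 ⟨hPM hyP, sc_le H hyσ⟩, hyσ⟩
    rw [h.2.2.1, mem_bot] at hy
    exact hy1 hy
  exact BG16.mem_kappa_of hG hH hq hqH hrank hxH hxo hyσ hy1 hxy

/-- (c) `N(X) ≤ M` -/
theorem partC (hG : IsMinSimpleOddOrder G) (h5 : L5 G) (hM : IsCoatom M) (hPM : P ≤ M)
    (hP : Nat.card P ∈ kappa M) (hH : IsCoatom H) (hN : normalizer (P : Set G) ≤ H)
    {X : Subgroup G} (hX : X ≤ cs M P) (hXp : (Nat.card X).Prime) :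
    normalizer (X : Set G) ≤ M := by
  haveI : Fact (Nat.card X).Prime := ⟨hXp⟩
  have hqd : Nat.card X ∣ Nat.card (cs M P) := card_dvd_of_le hX
  have hqκ : Nat.card X ∈ kappa H := partB hG h5 hM hPM hP hH hN hXp hqd
  have hqM : Nat.card X ∈ sigma M := sc_primes M hXp (hqd.trans (card_dvd_of_le inf_le_left))
  have hXpg : IsPGroup (Nat.card X) X := BG13BC.isPGroup_of_card_prime rfl
  have hX1 : X ≠ ⊥ := BG13BC.ne_bot_of_card_prime hXp rfl
  obtain ⟨L, hL, hNL⟩ := exists_coatom_ge (MS_normalizer_ne_top hG hX1 (MS_isPGroup_ne_top hG hXpg))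
  have hXH : X ≤ H := by
    rw [← partA hG h5 hM hPM hP hH hN] at hX
    exact hX.trans inf_le_right
  have hqL : Nat.card X ∈ sigma L := h5 H hH X hXH hqκ L hL hNL
  by_contra hcon
  have hne : L ≠ M := by
    rintro rfl
    exact hcon hNL
  exact (Helper91.BG13.tau2_compl hG (Cfsg.Agent.S1378.result hG).2 hM hL hne hqM hXpg hX1
    (hX.trans (inf_le_left.trans (sc_le M))) hNL).1.2.1 hqL

end PieceG

/-- L6 (the partner of a `κ`-subgroup of prime order). -/
theorem l6 (hG : IsMinSimpleOddOrder G) (h5 : L5 G) : L6 G := by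
  intro M hM P hPM hP H hH hN
  refine ⟨PieceG.sigma_disj hG h5 hM hPM hP hH hN, PieceG.partA hG h5 hM hPM hP hH hN,
    fun q hq hqd => PieceG.partB hG h5 hM hPM hP hH hN hq hqd, fun X hX hXp => ?_⟩
  have hNX := PieceG.partC hG h5 hM hPM hP hH hN hX hXp
  refine ⟨hNX, ?_⟩
  have hXH : X ≤ H := by
    have hX' := hX
    rw [← PieceG.partA hG h5 hM hPM hP hH hN] at hX'
    exact hX'.trans inf_le_right
  exact (PieceG.partA hG h5 hH hXH
    (PieceG.partB hG h5 hM hPM hP hH hN hXp (card_dvd_of_le hX)) hM hNX).symm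

end Cfsg.Agent.Lib.Helper87.BG14
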