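/-
Piece [H] of helper87's BG14 farm (bulletin #848): `l7 : L7 G` from `L5 G`, `L6 G`.  (helper98)
-/
import Cfsg.Agent.Lib.Helper87.BG14.Defs
import Cfsg.Agent.Lib.Helper24.BG13BC
import Cfsg.Agent.Lib.Helper91.BG134
import Cfsg.Agent.Lib.Helper58.BG139A
import Cfsg.Agent.Lib.Helper34.BG16a
import Cfsg.Agent.Lib.Helper62.HallCoprime
import Cfsg.Agent.S1415
import Cfsg.Agent.S1417

set_option autoImplicit false
set_option linter.unusedSimpArgs false
set_option linter.unusedVariables false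
set_option linter.style.haveILetI false
set_option linter.unusedSectionVars false

namespace Cfsg.Agent.Lib.Helper87.BG14

open Subgroup Cfsg
open Cfsg.Agent.Lib
open Cfsg.Agent.Lib.Helper24 Cfsg.Agent.Lib.Helper34 Cfsg.Agent.Lib.Helper31.BG11

universe u

variable {G : Type u} [Group G]

/-! ### generalities -/

theorem mem_normalizer_inf98 {A B : Subgroup G} {x : G} (hA : x ∈ normalizer (A : Set G))
    (hB : x ∈ normalizer (B : Set G)) : x ∈ normalizer ((A ⊓ B : Subgroup G) : Set G) := by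
  rw [mem_normalizer_iff] at *
  intro y
  have h1 := hA y
  have h2 := hB y
  simp only [SetLike.mem_coe, mem_inf] at *
  rw [h1, h2]

theorem mem_normalizer_centralizer98 {R : Subgroup G} {x : G} (hR : x ∈ normalizer (R : Set G)) :
    x ∈ normalizer ((centralizer (R : Set G) : Subgroup G) : Set G) := by
  apply mem_normalizer_of_map_conj_eq
  rw [← centralizer_map_conj, map_conj_eq_self_of_mem_normalizer hR]

theorem le_normalizer_cs98 [Finite G] {M R E : Subgroup G} (hEM : E ≤ M) (hER : E ≤ normalizer (R : Set G)) :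
    E ≤ normalizer ((cs M R : Subgroup G) : Set G) := fun x hx =>
  mem_normalizer_inf98 (sc_norm M (hEM hx)) (mem_normalizer_centralizer98 (hER hx))

theorem exists_ne_one_of_ne_bot98 {Y : Subgroup G} (h : Y ≠ ⊥) : ∃ y ∈ Y, y ≠ 1 := by
  by_contra hc
  apply h
  rw [eq_bot_iff_forall]
  intro y hy
  by_contra hy1
  exact hc ⟨y, hy, hy1⟩

variable [Finite G]

theorem compl_coprime98 (hG : IsMinSimpleOddOrder G) {M E : Subgroup G} (hM : IsCoatom M)
    (hE : IsComplIn E (sigmaCore M) M) : (Nat.card E).Coprime (Nat.card (sigmaCore M)) :=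
  Nat.coprime_of_dvd fun k hk h1 h2 =>
    BG13.compl_not_sigma hG (BG13BC.ut hG) hM hE hk h1 (sc_primes M hk h2)

namespace T3Cfg

variable {M H E R : Subgroup G}

theorem prime98 (h : T3Cfg M H E R) : (Nat.card R).Prime := h.hr.1

theorem EM98 (h : T3Cfg M H E R) : E ≤ M := h.hE.1

theorem RM98 (h : T3Cfg M H E R) : R ≤ M := h.hRE.trans h.EM98

theorem kappa98 (h : T3Cfg M H E R) (hG : IsMinSimpleOddOrder G) : Nat.card R ∈ kappa M := by
  obtain ⟨w, hw, hw1⟩ := exists_ne_one_of_card_prime h.prime98 rfl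
  obtain ⟨y, hy, hy1⟩ := exists_ne_one_of_ne_bot98 h.hY
  have hwo : orderOf w = Nat.card R := by
    have h1 : orderOf w ∣ Nat.card R := by
      have := orderOf_dvd_natCard (⟨w, hw⟩ : R)
      rwa [Subgroup.orderOf_mk] at this
    rcases (Nat.dvd_prime h.prime98).1 h1 with h2 | h2
    · exact absurd (orderOf_eq_one_iff.1 h2) hw1
    · exact h2
  exact BG16.mem_kappa_of hG h.hM h.prime98 h.hr.2.1 h.hr.2.2.2 (h.RM98 hw) hwo hy.1 hy1
    (mem_centralizer_iff.1 hy.2 w hw)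

theorem solvE98 (h : T3Cfg M H E R) (hG : IsMinSimpleOddOrder G) : Group.IsSolvable E :=
  MS_solvable hG (ne_top_of_le_ne_top h.hM.1 h.EM98)

/-- `R` lies in every Hall `τ₃(M)`-subgroup of `E`. -/
theorem le_E398 {M E R' E₃ : Subgroup G} (hG : IsMinSimpleOddOrder G) (hM : IsCoatom M)
    (hE : IsComplIn E (sigmaCore M) M) (hR' : R' ≤ E) (hr' : Nat.card R' ∈ tau3 M)
    (h3 : IsPiHallOf (tau3 M) E₃ E) : R' ≤ E₃ := by
  haveI : Fact (Nat.card R').Prime := ⟨hr'.1⟩
  have hS := (Cfsg.Agent.S1415.result hG M hM E hE).2.2 E₃ h3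
  exact le_of_normal_of_not_dvd h3.1 hS.2.2 (h3.2.2 _ hr'.1 hr') hR'
    (BG13BC.isPGroup_of_card_prime rfl)

theorem E_norm98 {M E R' : Subgroup G} (hG : IsMinSimpleOddOrder G) (hM : IsCoatom M)
    (hE : IsComplIn E (sigmaCore M) M) (hR' : R' ≤ E) (hr' : Nat.card R' ∈ tau3 M) :
    E ≤ normalizer (R' : Set G) := by
  obtain ⟨E₃, h3⟩ := Helper62.exists_isPiHallOf (tau3 M) E
    (MS_solvable hG (ne_top_of_le_ne_top hM.1 hE.1))
  have hS := (Cfsg.Agent.S1415.result hG M hM E hE).2.2 E₃ h3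
  exact hS.2.2.trans
    (Helper9.BG12.normalizer_le_normalizer_of_isCyclic hS.1 (le_E398 hG hM hE hR' hr' h3))

theorem EH98 (h : T3Cfg M H E R) (hG : IsMinSimpleOddOrder G) : E ≤ H :=
  (E_norm98 hG h.hM h.hE h.hRE h.hr).trans h.hNR

theorem nconj98 (h : T3Cfg M H E R) (h5 : L5 G) (hG : IsMinSimpleOddOrder G) (g : G) :
    M ≠ cj g H := by
  intro he
  have h1 : Nat.card R ∈ sigma H := h5 M h.hM R h.RM98 (h.kappa98 hG) H h.hH h.hNR
  have h2 : Nat.card R ∈ sigma (cj g H) := (sigma_cj_iff g).2 h1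
  rw [← he] at h2
  exact h.hr.2.1 h2

/-- `C_{M_σ}(R)` is centralized by every Hall `τ₃(M)`-subgroup of `E`. -/
theorem cs_le_cent98 (h : T3Cfg M H E R) (h5 : L5 G) (hG : IsMinSimpleOddOrder G)
    {E₃ : Subgroup G} (h3 : IsPiHallOf (tau3 M) E₃ E) :
    cs M R ≤ centralizer (E₃ : Set G) := by
  have hS := (Cfsg.Agent.S1415.result hG M h.hM E h.hE).2.2 E₃ h3
  have hEn : E ≤ normalizer ((cs M R : Subgroup G) : Set G) :=
    le_normalizer_cs98 h.EM98 (E_norm98 hG h.hM h.hE h.hRE h.hr)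
  have hYH : cs M R ≤ H := fun y hy => h.hNR (centralizer_le_normalizer _ hy.2)
  have hcop : (Nat.card E₃).Coprime (Nat.card (cs M R)) :=
    Nat.Coprime.coprime_dvd_left (card_dvd_of_le h3.1)
      (Nat.Coprime.coprime_dvd_right (card_dvd_of_le inf_le_left) (compl_coprime98 hG h.hM h.hE))
  have hsolv : Group.IsSolvable (cs M R) :=
    MS_solvable hG (ne_top_of_le_ne_top h.hM.1 (inf_le_left.trans (sc_le M)))
  have hE3H : E₃ ≤ ⁅H, H⁆ := hS.2.1.trans (commutator_mono (h.EH98 hG) (h.EH98 hG))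
  have key : cs M R ⊓ centralizer (E₃ : Set G) = cs M R := by
    apply BG13.eq_of_forall_not_dvd_relIndex inf_le_left
    intro t ht hd
    haveI : Fact t.Prime := ⟨ht⟩
    obtain ⟨T, hT, hET, -⟩ := BG13BC.exists_invariant_sylow_ge (A := E₃) (K := cs M R) (U := ⊥)
      (t := t) (h3.1.trans hEn) hcop hsolv IsPGroup.of_bot bot_le
      (by intro x _; rw [mem_normalizer_iff]; intro y; simp [mem_bot])
    have htd : t ∣ Nat.card (cs M R) :=
      hd.trans (relIndex_dvd_card _ _)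
    have htσ : t ∈ sigma M := sc_primes M ht (htd.trans (card_dvd_of_le inf_le_left))
    have htE : ¬ t ∣ Nat.card E₃ := fun h' =>
      BG13.compl_not_sigma hG (BG13BC.ut hG) h.hM h.hE ht (h'.trans (card_dvd_of_le h3.1)) htσ
    have hc : ⁅T, E₃⁆ = ⊥ := BG13.star hG (BG13BC.ut hG) (BG13BC.h14 hG) h.hH h.hM
      (h.nconj98 h5 hG) htσ (hT.1.trans hYH) hT.2.1 htE hET (Or.inr hE3H)
    have hTc : T ≤ cs M R ⊓ centralizer (E₃ : Set G) :=
      le_inf hT.1 (by
        rw [commutator_comm, commutator_eq_bot_iff_le_centralizer] at hc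
        intro x hx
        rw [mem_centralizer_iff]
        intro e he
        exact (mem_centralizer_iff.1 (hc he) x hx).symm)
    exact hT.2.2 (dvd_trans hd (relIndex_dvd_of_le_left _ hTc))
  rw [← key]
  exact inf_le_right

end T3Cfg

theorem l7 (hG : IsMinSimpleOddOrder G) (h5 : L5 G) (h6 : L6 G) : L7 G := by
  intro M H E R h
  have hκ := h.kappa98 hG
  have hσH : Nat.card R ∈ sigma H := h5 M h.hM R h.RM98 hκ H h.hH h.hNR
  obtain ⟨hdis, hMH, -, -⟩ := h6 M h.hM R h.RM98 hκ H h.hH h.hNR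
  have hEH := h.EH98 hG
  have hne : H ≠ M := fun he => h.hr.2.1 (he ▸ hσH)
  -- coprimality of `Y` and `Z`
  have hcopYZ : (Nat.card (cs M R)).Coprime (Nat.card (sigmaCore H ⊓ M : Subgroup G)) :=
    Nat.coprime_of_dvd fun k hk h1 h2 =>
      hdis k (sc_primes M hk (h1.trans (card_dvd_of_le inf_le_left)))
        (sc_primes H hk (h2.trans (card_dvd_of_le inf_le_left)))
  have hYZ : cs M R ≤ centralizer ((sigmaCore H ⊓ M : Subgroup G) : Set G) := by
    apply Helper91.BG13.le_centralizer_of_normalize_coprime _ _ hcopYZ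
    · rw [← hMH]
      intro x hx
      exact mem_normalizer_inf98 (sc_norm H hx.2) (le_normalizer (sc_le M hx.1))
    · rw [← hMH]
      intro x hx
      exact mem_normalizer_inf98 (sc_norm M hx.2) (le_normalizer (sc_le H hx.1))
  refine ⟨hEH, hσH, hdis, hMH, ?_, ?_, ?_, hYZ, ?_⟩
  · -- `M ⊓ H = Y ⊔ E`
    apply le_antisymm
    · intro x hx
      obtain ⟨a, ha, b, hb, rfl⟩ := h.hE.2.2.2 x hx.1
      have hbH : b ∈ H := by
        have := H.mul_mem (H.inv_mem (hEH ha)) hx.2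
        simpa using this
      have hbY : b ∈ cs M R := hMH ▸ (⟨hb, hbH⟩ : b ∈ sigmaCore M ⊓ H)
      exact mul_mem (mem_sup_right ha) (mem_sup_left hbY)
    · exact sup_le (le_inf (inf_le_left.trans (sc_le M)) (hMH ▸ inf_le_right)) (le_inf h.EM98 hEH)
  · -- `τ₂(M) = ∅`
    rw [Set.eq_empty_iff_forall_notMem]
    intro q hq
    haveI : Fact q.Prime := ⟨hq.1⟩
    obtain ⟨A, hAE, hA, hAc⟩ := Helper91.BG13.exists_elemAb_sq_compl h.hE hq
    have := (Cfsg.Agent.S1417.result hG M h.hM q hq A ⟨hAE.trans h.EM98, hA, hAc⟩).2.2.2.2.1 H h.hH hne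
      (hAE.trans hEH)
    exact h.hY (hMH ▸ this)
  · -- `Z ≤ E`
    intro z hz
    obtain ⟨a, ha, b, hb, hzab⟩ := h.hE.2.2.2 z hz.2
    have hbH : b ∈ H := by
      have := H.mul_mem (H.inv_mem (hEH ha)) (sc_le H hz.1)
      rw [hzab] at this
      simpa using this
    have hbY : b ∈ cs M R := hMH ▸ (⟨hb, hbH⟩ : b ∈ sigmaCore M ⊓ H)
    have hcomm : Commute z b := (mem_centralizer_iff.1 (hYZ hbY) z hz)
    have ha' : a = z * b⁻¹ := by rw [hzab]; group
    set n := Nat.card (sigmaCore H ⊓ M : Subgroup G) with hn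
    have hzn : z ^ n = 1 := by
      have := pow_card_eq_one' (x := (⟨z, hz⟩ : (sigmaCore H ⊓ M : Subgroup G)))
      exact congrArg Subtype.val this
    have han : a ^ n = (b ^ n)⁻¹ := by
      rw [ha', (hcomm.inv_right).mul_pow, hzn, one_mul, inv_pow]
    have hbn : b ^ n = 1 := by
      have h1 : (b ^ n)⁻¹ ∈ E ⊓ sigmaCore M :=
        ⟨han ▸ E.pow_mem ha n, (sigmaCore M).inv_mem ((sigmaCore M).pow_mem hb n)⟩
      rw [h.hE.2.2.1, mem_bot, inv_eq_one] at h1
      exact h1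
    have hbY' : b ^ Nat.card (cs M R) = 1 := by
      have := pow_card_eq_one' (x := (⟨b, hbY⟩ : cs M R))
      exact congrArg Subtype.val this
    have hb1 : b = 1 := Helper23.eq_one_of_pow_coprime hcopYZ hbY' hbn
    rw [hzab, hb1, mul_one]
    exact ha
  · -- all `R'`
    intro R' hR' hr'
    obtain ⟨E₃, h3⟩ := Helper62.exists_isPiHallOf (tau3 M) E (h.solvE98 hG)
    have hRE3 : R ≤ E₃ := T3Cfg.le_E398 hG h.hM h.hE h.hRE h.hr h3
    have hR'E3 : R' ≤ E₃ := T3Cfg.le_E398 hG h.hM h.hE hR' hr' h3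
    have h1 : cs M R ≤ cs M R' :=
      le_inf inf_le_left ((h.cs_le_cent98 h5 hG h3).trans (centralizer_le hR'E3))
    have hR'1 : R' ≠ ⊥ := BG13BC.ne_bot_of_card_prime hr'.1 rfl
    have hR'top : R' ≠ ⊤ := ne_top_of_le_ne_top h.hM.1 (hR'.trans h.EM98)
    obtain ⟨H', hH', hNH'⟩ := exists_coatom_ge (MS_normalizer_ne_top hG hR'1 hR'top)
    have h' : T3Cfg M H' E R' :=
      ⟨h.hM, hH', h.hE, hR', hr', fun hb => h.hY (le_bot_iff.1 (hb ▸ h1)), hNH'⟩
    exact le_antisymm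
      (le_inf inf_le_left ((h'.cs_le_cent98 h5 hG h3).trans (centralizer_le hRE3))) h1

end Cfsg.Agent.Lib.Helper87.BG14
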