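/-
Helper library (helper91, for helper87's BG14 farm): piece [Q] = L10 (Case B of BG 14.2).
-/
import Cfsg.Agent.Lib.Helper87.BG14.Defs
import Cfsg.Agent.Lib.Helper91.BG134
import Cfsg.Agent.Lib.Helper34.BG16a
import Cfsg.Agent.Lib.Helper2.PByCyc
import Cfsg.Agent.Lib.Helper62.HallCoprime
import Cfsg.Agent.S1428

set_option autoImplicit false
set_option linter.unusedSimpArgs false
set_option linter.unusedVariables false
set_option linter.style.haveILetI false
set_option linter.unusedSectionVars false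

namespace Cfsg.Agent.Lib.Helper87.BG14

open Subgroup Cfsg
open Cfsg.Agent.Lib
open Cfsg.Agent.Lib.Helper24 Cfsg.Agent.Lib.Helper34 Cfsg.Agent.Lib.Helper31.BG11
open Cfsg.Agent.Lib.Helper34.BG13 Cfsg.Agent.Lib.Helper9.BG12 Cfsg.Agent.Lib.Helper91.BG13
open scoped commutatorElement

universe u

variable {G : Type u} [Group G] [Finite G]

/-- A prime dividing `|M|` outside `σ(M)` divides the order of every complement. -/
theorem q_dvd_card_compl {M E : Subgroup G} (hE : IsComplIn E (sigmaCore M) M) {p : ℕ}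
    (hp : p.Prime) (hd : p ∣ Nat.card M) (hσ : p ∉ sigma M) : p ∣ Nat.card E := by
  rw [← Helper23.complIn_card_mul hE] at hd
  rcases (Nat.Prime.dvd_mul hp).1 hd with h | h
  · exact h
  · exact absurd (sc_primes M hp h) hσ

theorem q_dvd_card_hall {π : Set ℕ} {K E : Subgroup G} (hK : IsPiHallOf π K E) {p : ℕ}
    (hp : p.Prime) (hd : p ∣ Nat.card E) (hπ : p ∈ π) : p ∣ Nat.card K := by
  rw [← Helper23.card_mul_relIndex hK.1] at hd
  rcases (Nat.Prime.dvd_mul hp).1 hd with h | h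
  · exact h
  · exact absurd h (hK.2.2 p hp hπ)

theorem q_isSylowIn_of_hall {π : Set ℕ} {K E S : Subgroup G} (hK : IsPiHallOf π K E) {p : ℕ}
    [hp : Fact p.Prime] (hπ : p ∈ π) (hS : IsSylowIn p S K) : IsSylowIn p S E := by
  refine ⟨hS.1.trans hK.1, hS.2.1, ?_⟩
  rw [← relIndex_mul_relIndex S K E hS.1 hK.1]
  exact hp.out.not_dvd_mul hS.2.2 (hK.2.2 p hp.out hπ)

/-- The type of a prime divisor of a complement. -/
theorem q_type (hG : IsMinSimpleOddOrder G) {M E : Subgroup G} (hM : IsCoatom M)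
    (hE : IsComplIn E (sigmaCore M) M) {q : ℕ} (hq : q.Prime) (hd : q ∣ Nat.card E) :
    q ∈ tau1 M ∨ q ∈ tau2 M ∨ q ∈ tau3 M := by
  have hσ := compl_not_sigma hG (ut hG) hM hE hq hd
  by_cases h2 : q ∈ tau2 M
  · exact Or.inr (Or.inl h2)
  have h1 := pRankLE_one_of_not hG hM hq hσ h2
  by_cases h3 : q ∣ Nat.card ↥⁅M, M⁆
  · exact Or.inr (Or.inr ⟨hq, hσ, h3, h1⟩)
  · exact Or.inl ⟨hq, hσ, hd.trans (card_dvd_of_le hE.1), h3, h1⟩

theorem q_exists_ne_one {K : Subgroup G} (h : K ≠ ⊥) : ∃ y ∈ K, y ≠ 1 := by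
  by_contra hcon
  push Not at hcon
  exact h ((Subgroup.eq_bot_iff_forall _).2 hcon)

/-- In Case B, a subgroup of prime order of `E` commuting with `P` (of order `p ∈ τ₁(M)`,
`C_{M_σ}(P) ≠ 1`) has order in `τ₁(M)`. -/
theorem q_commuting_type (hG : IsMinSimpleOddOrder G) (h4 : L4 G) {M E : Subgroup G}
    (hM : IsCoatom M) (hE : IsComplIn E (sigmaCore M) M) (h3 : ∀ r ∈ tau3 M, r ∉ kappa M)
    {P : Subgroup G} (hPE : P ≤ E) (hP : Nat.card P ∈ tau1 M) (hPc : cs M P ≠ ⊥)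
    {R : Subgroup G} (hRE : R ≤ E) (hRP : R ≤ centralizer (P : Set G)) (hR : (Nat.card R).Prime) :
    Nat.card R ∈ tau1 M := by
  have hR1 : R ≠ ⊥ := by
    rintro rfl
    rw [card_bot] at hR
    exact Nat.not_prime_one hR
  rcases q_type hG hM hE hR (card_dvd_of_le hRE) with h | h | h
  · exact h
  · exfalso
    haveI : Fact (Nat.card R).Prime := ⟨hR⟩
    obtain ⟨A, hAE, hA, hAc⟩ := exists_elemAb_sq_compl hE h
    have hRA : R ≤ A := (Cfsg.Agent.S1418.result hG M hM E hE _ h A ⟨hAE, hA, hAc⟩).1.2 R hRE rfl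
    refine hPc (h4 M E hM hE P hPE hP _ h A hAE hA hAc ?_)
    intro hb
    exact hR1 (le_bot_iff.1 (hb ▸ le_inf hRA hRP))
  · exfalso
    have h28 := Cfsg.Agent.S1428.result hG M hM E hE _ hP P hPE rfl R (le_inf hRE hRP) hR
    obtain ⟨y, hy, hy1⟩ := q_exists_ne_one hPc
    obtain ⟨w, hw, hw1⟩ := exists_ne_one_of_card_prime hR rfl
    have hwo : orderOf w = Nat.card R := by
      have h5 : orderOf w ∣ Nat.card R := by
        have := orderOf_dvd_natCard (⟨w, hw⟩ : R)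
        rwa [Subgroup.orderOf_mk] at this
      rcases (Nat.dvd_prime hR).1 h5 with h6 | h6
      · exact absurd (orderOf_eq_one_iff.1 h6) hw1
      · exact h6
    have hyR := (h28 hy).2
    exact h3 _ h (Helper34.BG16.mem_kappa_of hG hM hR h.2.1 h.2.2.2 (hE.1 (hRE hw)) hwo (h28 hy).1 hy1
      (mem_centralizer_iff.1 hyR w hw))

/-- In Case B, `E'` contains a Sylow `q`-subgroup of `E` for every prime `q ∉ τ₁(M)`. -/
theorem q_not_dvd_relIndex (hG : IsMinSimpleOddOrder G) (h4 : L4 G) {M E : Subgroup G}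
    (hM : IsCoatom M) (hE : IsComplIn E (sigmaCore M) M)
    {P : Subgroup G} (hPE : P ≤ E) (hP : Nat.card P ∈ tau1 M) (hPc : cs M P ≠ ⊥)
    {q : ℕ} (hq : q.Prime) (hq1 : q ∉ tau1 M) : ¬ q ∣ (⁅E, E⁆ : Subgroup G).relIndex E := by
  have hU := ut hG
  have hEE : ⁅E, E⁆ ≤ E := Subgroup.commutator_le_self E
  intro hd
  have hqE : q ∣ Nat.card E := hd.trans (Subgroup.relIndex_dvd_card _ _)
  haveI : Fact q.Prime := ⟨hq⟩
  haveI : Fact (Nat.card P).Prime := ⟨hP.1⟩
  have hsolvE : Group.IsSolvable E := MS_solvable hG (ne_top_of_le_ne_top hM.1 hE.1)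
  rcases q_type hG hM hE hq hqE with h | h | h
  · exact hq1 h
  · -- `q ∈ τ₂(M)`
    obtain ⟨A, hAE, hA, hAc⟩ := exists_elemAb_sq_compl hE h
    have h18 := Cfsg.Agent.S1418.result hG M hM E hE q h A ⟨hAE, hA, hAc⟩
    have hApg : IsPGroup q A := isPGroup_of_exponent hA.2
    have hCE : centralizer (A : Set G) ≤ E := by
      have := h18.2.1.1
      rwa [h18.2.1.2.1] at this
    have hEC : E ≤ normalizer ((centralizer (A : Set G) : Subgroup G) : Set G) :=
      h18.1.1.trans (Helper24.normalizer_le_normalizer_centralizer A)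
    have hAP : A ⊓ centralizer (P : Set G) = ⊥ := by
      by_contra hne
      exact hPc (h4 M E hM hE P hPE hP q h A hAE hA hAc hne)
    have hA1 : A ≠ ⊥ := by
      rintro rfl
      rw [card_bot] at hAc
      exact absurd hAc.symm (Nat.one_lt_pow (by norm_num) hq.one_lt).ne'
    have hPpg : IsPGroup (Nat.card P) P := IsPGroup.of_card (n := 1) (by rw [pow_one])
    -- `p ∤ |C(A)|`
    have hpC : ¬ Nat.card P ∣ Nat.card (centralizer (A : Set G)) := by
      intro hdC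
      obtain ⟨y, hy⟩ := exists_prime_orderOf_dvd_card' (G := centralizer (A : Set G)) (Nat.card P) hdC
      have hyo : orderOf (y : G) = Nat.card P := by rw [Subgroup.orderOf_coe, hy]
      have hYc : Nat.card (zpowers (y : G)) = Nat.card P := by rw [Nat.card_zpowers, hyo]
      have hYC : zpowers (y : G) ≤ centralizer (A : Set G) := zpowers_le.2 y.2
      obtain ⟨S, hS, hPS⟩ := exists_isSylowIn_ge hPE hPpg
      have hSc : IsCyclic S := isCyclic_of_pRankLE_one (MS_prime_ne_two hG hP.2.2.1) hS.2.1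
        (pRankLE_mono (hS.1.trans hE.1) hP.2.2.2.2)
      obtain ⟨n, hn, hnS⟩ := hS.exists_conj_le (hYC.trans hCE)
        (IsPGroup.of_card (n := 1) (by rw [pow_one, hYc]))
      have heq : cj n (zpowers (y : G)) = P :=
        Helper2.eq_of_card_prime_of_le_cyclic S hSc hS.2.1 _ _ hnS hPS
          (by rw [card_map_conj, hYc]) rfl
      have hPC : P ≤ centralizer (A : Set G) := by
        rw [← heq]
        calc cj n (zpowers (y : G)) ≤ cj n (centralizer (A : Set G)) := cj_mono n hYC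
          _ = centralizer (A : Set G) := map_conj_eq_self_of_mem_normalizer (hEC hn)
      apply hA1
      rw [eq_bot_iff, ← hAP]
      refine le_inf le_rfl ?_
      rw [← Subgroup.commutator_eq_bot_iff_le_centralizer, Subgroup.commutator_comm]
      exact Subgroup.commutator_eq_bot_iff_le_centralizer.2 hPC
    obtain ⟨Q, hQ, hPQ⟩ := exists_inv_sylow hPpg hpC (hPE.trans hEC) q
    have hQE : Q ≤ E := hQ.1.trans hCE
    -- `C_Q(P) = 1`
    have hQP : Q ⊓ centralizer (P : Set G) = ⊥ := by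
      by_contra hne
      have hpg : IsPGroup q ↥(Q ⊓ centralizer (P : Set G)) := hQ.2.1.to_inf_left
      obtain ⟨y, hy⟩ := exists_prime_orderOf_dvd_card' (G := ↥(Q ⊓ centralizer (P : Set G))) q
        (dvd_card_of_isPGroup_ne_bot' hpg hne)
      have hyo : orderOf (y : G) = q := by rw [Subgroup.orderOf_coe, hy]
      have hYc : Nat.card (zpowers (y : G)) = q := by rw [Nat.card_zpowers, hyo]
      have hYA : zpowers (y : G) ≤ A := h18.1.2 _ (zpowers_le.2 (hQE y.2.1)) hYc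
      have h1 : (y : G) ∈ A ⊓ centralizer (P : Set G) := ⟨hYA (mem_zpowers _), y.2.2⟩
      rw [hAP, mem_bot] at h1
      rw [h1, orderOf_one] at hyo
      exact hq.one_lt.ne hyo
    have hpQ : ¬ Nat.card P ∣ Nat.card Q := fun h => hpC (h.trans (card_dvd_of_le hQ.1))
    have hQc : ⁅Q, P⁆ = Q := by
      have := Helper22.commutator_sup_centralizer P Q hPpg hpQ hPQ
      rwa [hQP, sup_bot_eq] at this
    have hQEE : Q ≤ ⁅E, E⁆ := by
      rw [← hQc]
      exact Subgroup.commutator_mono hQE hPE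
    -- `C(A)` contains a Sylow `q`-subgroup of `E`
    obtain ⟨Q₁, hQ₁, hAQ₁⟩ := exists_isSylowIn_ge hAE hApg
    have hQ₁M := compl_sylow hE h.2.1 hQ₁
    have hQ₁c : IsMulCommutative Q₁ := by
      have h17 := ((Cfsg.Agent.S1417.result hG M hM q h A ⟨hAE.trans hE.1, hA, hAc⟩).2.1
        hQ₁M.toSylow).1
      rw [hQ₁M.coe_toSylow] at h17
      refine ⟨⟨fun a b => ?_⟩⟩
      have := h17.is_comm.comm (⟨⟨a, hQ₁M.1 a.2⟩, mem_subgroupOf.2 a.2⟩ : Q₁.subgroupOf M)
        ⟨⟨b, hQ₁M.1 b.2⟩, mem_subgroupOf.2 b.2⟩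
      exact Subtype.ext (congrArg (fun z : Q₁.subgroupOf M => ((z : M) : G)) this)
    have hQ₁C : Q₁ ≤ centralizer (A : Set G) := le_centralizer_of_comm hQ₁c hAQ₁
    have hCi : ¬ q ∣ (centralizer (A : Set G)).relIndex E := by
      intro h5
      apply hQ₁.2.2
      rw [← relIndex_mul_relIndex Q₁ _ E hQ₁C hCE]
      exact Dvd.dvd.mul_left h5 _
    have hQsE : ¬ q ∣ Q.relIndex E := by
      rw [← relIndex_mul_relIndex Q _ E hQ.1 hCE]
      exact hq.not_dvd_mul hQ.2.2 hCi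
    apply hQsE
    rw [← relIndex_mul_relIndex Q _ E hQEE hEE]
    exact Dvd.dvd.mul_left hd _
  · -- `q ∈ τ₃(M)`
    obtain ⟨E₃, hE₃⟩ := Helper62.exists_isPiHallOf (tau3 M) E hsolvE
    have h15 := ((Cfsg.Agent.S1415.result hG M hM E hE).2.2 E₃ hE₃).2.1
    apply hE₃.2.2 q hq h
    rw [← relIndex_mul_relIndex E₃ _ E h15 hEE]
    exact Dvd.dvd.mul_left hd _

theorem q_kappa_rank_one {L : Subgroup G} {p : ℕ} (h : p ∈ kappa L) : PRankLE p 1 L := by
  haveI : Fact p.Prime := ⟨h.1⟩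
  obtain ⟨P⟩ : Nonempty (Sylow p L) := inferInstance
  haveI := (h.2.2.2 P).1
  haveI : IsCyclic ↥((P : Subgroup L).map L.subtype) :=
    isCyclic_of_surjective (L.subtype.subgroupMap (P : Subgroup L))
      (MonoidHom.subgroupMap_surjective _ _)
  exact pRankLE_of_isSylowIn (Sylow.isSylowIn_map P) (pRankLE_one_of_isCyclic h.1.pos)

/-- A non-identity element has a power of prime order. -/
theorem q_exists_prime_pow {y : G} (hy : y ≠ 1) :
    ∃ n : ℕ, (orderOf (y ^ n)).Prime := by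
  have h1 : orderOf y ≠ 1 := fun h => hy (orderOf_eq_one_iff.1 h)
  obtain ⟨r, hr, hrd⟩ := Nat.exists_prime_and_dvd h1
  obtain ⟨m, hm⟩ := hrd
  refine ⟨m, ?_⟩
  have hpos : 0 < orderOf y := orderOf_pos y
  have hm0 : m ≠ 0 := by
    rintro rfl
    rw [mul_zero] at hm
    omega
  rw [orderOf_pow_of_dvd hm0 ⟨r, by rw [hm, mul_comm]⟩, hm, Nat.mul_div_cancel _ (Nat.pos_of_ne_zero hm0)]
  exact hr

/-- **L10** (Case B of BG 14.2). -/
theorem l10 (hG : IsMinSimpleOddOrder G) (h4 : L4 G) (h135 : L135 G) : L10 G := by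
  intro M E K hM hE hK hκ h3
  have hU := ut hG
  have hκτ : ∀ p ∈ kappa M, p ∈ tau1 M := by
    intro p hp
    by_cases hd : p ∣ Nat.card ↥⁅M, M⁆
    · exact absurd hp (h3 p ⟨hp.1, hp.2.2.1, hd, q_kappa_rank_one hp⟩)
    · exact ⟨hp.1, hp.2.2.1, hp.2.1, hd, q_kappa_rank_one hp⟩
  have hdK : ∀ p ∈ tau1 M, p ∣ Nat.card K := fun p hp =>
    q_dvd_card_hall hK hp.1 (q_dvd_card_compl hE hp.1 hp.2.2.1 hp.2.1) hp
  -- `C_{M_σ}(K) ≠ 1`
  have hKc : cs M K ≠ ⊥ := by
    obtain ⟨p, hp⟩ := hκ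
    haveI : Fact p.Prime := ⟨hp.1⟩
    obtain ⟨S, hS, -⟩ := exists_isSylowIn_ge (bot_le : (⊥ : Subgroup G) ≤ K)
      (IsPGroup.of_bot (p := p))
    have hSM := compl_sylow hE hp.2.2.1 (q_isSylowIn_of_hall hK (hκτ p hp) hS)
    obtain ⟨-, x, hx, hx1, y, hy, hy1, hxy⟩ := hp.2.2.2 hSM.toSylow
    rw [hSM.coe_toSylow, mem_subgroupOf] at hx
    have h5 := h135 M E K hM hE hK (x : G) (hS.1 hx) (fun h => hx1 (Subtype.ext h))
    intro hb
    have h6 : y ∈ sigmaCore M ⊓ centralizer ({(x : G)} : Set G) :=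
      ⟨hy, mem_centralizer_singleton_iff.2 hxy.symm⟩
    rw [h5, hb, mem_bot] at h6
    exact hy1 h6
  -- subgroups of prime order of `K`
  have hPK : ∀ k ∈ K, (orderOf k).Prime → Nat.card (zpowers k) ∈ tau1 M ∧ cs M (zpowers k) ≠ ⊥ := by
    intro k hk hko
    have hk1 : k ≠ 1 := by
      rintro rfl
      rw [orderOf_one] at hko
      exact Nat.not_prime_one hko
    refine ⟨?_, ?_⟩
    · rw [Nat.card_zpowers]
      apply hK.2.1 _ hko
      have := orderOf_dvd_natCard (⟨k, hk⟩ : K)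
      rwa [Subgroup.orderOf_mk] at this
    · show sigmaCore M ⊓ centralizer ((zpowers k : Subgroup G) : Set G) ≠ ⊥
      rw [centralizer_zpowers_eq, h135 M E K hM hE hK k hk hk1]
      exact hKc
  refine ⟨?_, hKc, ⁅E, E⁆, le_rfl, Helper34.BG13.le_normalizer_commutator_self E,
    (Cfsg.Agent.S1420.result hG M hM E hE).2.1, ⟨Subgroup.commutator_le_self E, ?_, ?_⟩, ?_⟩
  · -- `κ(M) = τ₁(M)`
    ext p
    refine ⟨hκτ p, fun hp => ?_⟩
    haveI : Fact p.Prime := ⟨hp.1⟩
    obtain ⟨w, hw⟩ := exists_prime_orderOf_dvd_card' (G := K) p (hdK p hp)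
    have hwo : orderOf (w : G) = p := by rw [Subgroup.orderOf_coe, hw]
    have hw1 : (w : G) ≠ 1 := by
      intro h
      rw [h, orderOf_one] at hwo
      exact hp.1.one_lt.ne hwo
    obtain ⟨y, hy, hy1⟩ := q_exists_ne_one hKc
    rw [← h135 M E K hM hE hK (w : G) w.2 hw1] at hy
    exact Helper34.BG16.mem_kappa_of hG hM hp.1 hp.2.1 hp.2.2.2.2 (hE.1 (hK.1 w.2)) hwo hy.1 hy1
      (mem_centralizer_singleton_iff.1 hy.2).symm
  · intro q hq hd
    exact ⟨hq, fun h => h.2.2.2.1 (hd.trans (card_dvd_of_le (Subgroup.commutator_mono hE.1 hE.1)))⟩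
  · intro q hq hq1
    obtain ⟨p, hp⟩ := hκ
    haveI : Fact p.Prime := ⟨hp.1⟩
    obtain ⟨w, hw⟩ := exists_prime_orderOf_dvd_card' (G := K) p (hdK p (hκτ p hp))
    have hwo : orderOf (w : G) = p := by rw [Subgroup.orderOf_coe, hw]
    obtain ⟨h7, h8⟩ := hPK (w : G) w.2 (by rw [hwo]; exact hp.1)
    exact q_not_dvd_relIndex hG h4 hM hE (zpowers_le.2 (hK.1 w.2)) h7 h8 hq hq1.2
  · -- semiregularity
    intro k hk hk1
    rw [eq_bot_iff]
    intro u hu
    rw [mem_bot]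
    by_contra hu1
    obtain ⟨n, hn⟩ := q_exists_prime_pow hk1
    obtain ⟨m, hm⟩ := q_exists_prime_pow hu1
    obtain ⟨h7, h8⟩ := hPK (k ^ n) (pow_mem hk n) hn
    have huk : k * u = u * k := (mem_centralizer_singleton_iff.1 hu.2).symm
    have hcomm : Commute (k ^ n) (u ^ m) := (Commute.pow_pow (show Commute k u from huk) n m)
    have hRE : zpowers (u ^ m) ≤ E :=
      zpowers_le.2 (pow_mem (Subgroup.commutator_le_self E hu.1) m)
    have hRP : zpowers (u ^ m) ≤ centralizer ((zpowers (k ^ n) : Subgroup G) : Set G) := by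
      rw [centralizer_zpowers_eq, zpowers_le, mem_centralizer_singleton_iff]
      exact hcomm.symm
    have h9 := q_commuting_type hG h4 hM hE h3 (zpowers_le.2 (hK.1 (pow_mem hk n))) h7 h8 hRE hRP
      (by rw [Nat.card_zpowers]; exact hm)
    apply h9.2.2.2.1
    have h10 : zpowers (u ^ m) ≤ ⁅M, M⁆ :=
      zpowers_le.2 (pow_mem (Subgroup.commutator_mono hE.1 hE.1 hu.1) m)
    exact card_dvd_of_le h10

end Cfsg.Agent.Lib.Helper87.BG14
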