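/-
Helper library (helper91, for helper87's BG14 farm): piece [J] = L8b (case `[Y, P] = 1` of BG 13.10).
-/
import Cfsg.Agent.Lib.Helper87.BG14.Q
import Cfsg.Agent.S1427

set_option autoImplicit false
set_option linter.unusedSimpArgs false
set_option linter.unusedVariables false
set_option linter.style.haveILetI false
set_option linter.unusedSectionVars false

namespace Cfsg.Agent.Lib.Helper87.BG14

open Subgroup Cfsg
open Cfsg.Agent.Lib
open Cfsg.Agent.Lib.Helper24 Cfsg.Agent.Lib.Helper34 Cfsg.Agent.Lib.Helper31.BG11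
open Cfsg.Agent.Lib.Helper34.BG13 Cfsg.Agent.Lib.Helper9.BG12 Cfsg.Agent.Lib.Helper91.BG13
open scoped commutatorElement

universe u

variable {G : Type u} [Group G] [Finite G]

theorem j_le_centralizer_symm {A B : Subgroup G} (h : A ≤ centralizer (B : Set G)) :
    B ≤ centralizer (A : Set G) := by
  rw [← Subgroup.commutator_eq_bot_iff_le_centralizer, Subgroup.commutator_comm]
  exact Subgroup.commutator_eq_bot_iff_le_centralizer.2 h

theorem j_ne_bot_of_card_prime {R : Subgroup G} (hR : (Nat.card R).Prime) : R ≠ ⊥ := by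
  rintro rfl
  rw [card_bot] at hR
  exact Nat.not_prime_one hR

/-- A subgroup of prime order `r ∉ σ(M)`, of rank one, with `C_{M_σ}(R) ≠ 1`, has `r ∈ κ(M)`. -/
theorem j_mem_kappa (hG : IsMinSimpleOddOrder G) {M R : Subgroup G} (hM : IsCoatom M)
    (hRM : R ≤ M) (hR : (Nat.card R).Prime) (hσ : Nat.card R ∉ sigma M)
    (h1 : PRankLE (Nat.card R) 1 M) (hY : cs M R ≠ ⊥) : Nat.card R ∈ kappa M := by
  obtain ⟨y, hy, hy1⟩ := q_exists_ne_one hY
  obtain ⟨w, hw, hw1⟩ := exists_ne_one_of_card_prime hR rfl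
  have hwo : orderOf w = Nat.card R := by
    have h5 : orderOf w ∣ Nat.card R := by
      have := orderOf_dvd_natCard (⟨w, hw⟩ : R)
      rwa [Subgroup.orderOf_mk] at this
    rcases (Nat.dvd_prime hR).1 h5 with h6 | h6
    · exact absurd (orderOf_eq_one_iff.1 h6) hw1
    · exact h6
  exact Helper34.BG16.mem_kappa_of hG hM hR hσ h1 (hRM hw) hwo hy.1 hy1
    (mem_centralizer_iff.1 hy.2 w hw)

/-- `C_{M_σ}(R) = C_{M_σ}(S)` for `R ≠ 1` in a cyclic Sylow subgroup `S` of `E`. -/
theorem j_cs_sylow (hG : IsMinSimpleOddOrder G) {M E : Subgroup G} (hM : IsCoatom M)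
    (hE : IsComplIn E (sigmaCore M) M) {s : ℕ} [Fact s.Prime] {S : Subgroup G}
    (hS : IsSylowIn s S E) (hSc : IsCyclic S) {R : Subgroup G} (hRS : R ≤ S) (hR1 : R ≠ ⊥) :
    cs M R ≤ centralizer (S : Set G) := by
  obtain ⟨x, hx, hx1⟩ := q_exists_ne_one hR1
  have hmap : (S.subgroupOf E).map E.subtype = S := by
    rw [Subgroup.subgroupOf_map_subtype, inf_of_le_left hS.1]
  have hne : ((hS.toSylow : Sylow s E) : Subgroup E) ≠ ⊥ := by
    rw [hS.coe_toSylow]
    intro hb
    have h1 : (⟨x, hS.1 (hRS hx)⟩ : E) ∈ S.subgroupOf E := mem_subgroupOf.2 (hRS hx)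
    rw [hb, mem_bot] at h1
    exact hx1 (congrArg Subtype.val h1)
  have hcyc : IsCyclic ((hS.toSylow : Sylow s E) : Subgroup E) := by
    rw [hS.coe_toSylow]
    exact isCyclic_of_surjective (Subgroup.subgroupOfEquivOfLe hS.1).symm
      (Subgroup.subgroupOfEquivOfLe hS.1).symm.surjective
  have h27 := Cfsg.Agent.S1427.result hG M hM E hE s hS.toSylow hne hcyc x
    (by rw [hS.coe_toSylow, hmap]; exact hRS hx) hx1
  rw [hS.coe_toSylow, hmap] at h27
  intro y hy
  have h1 : y ∈ sigmaCore M ⊓ centralizer ({x} : Set G) :=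
    ⟨hy.1, centralizer_le (by simpa using hx) hy.2⟩
  rw [h27] at h1
  exact h1.2

/-- In a solvable subgroup, a `π`-subgroup lies in a Hall `π`-subgroup. -/
theorem j_hall_ge {π : Set ℕ} {M U : Subgroup G} (hM : Group.IsSolvable M) (hU : U ≤ M)
    (hπ : ∀ p : ℕ, p.Prime → p ∣ Nat.card U → p ∈ π) : ∃ H, IsPiHallOf π H M ∧ U ≤ H := by
  obtain ⟨H, h1, _, h3⟩ := Cfsg.Agent.Lib.Helper62.invariant_le_invariant_hall_aux π _ G ⊥ M U rfl
    bot_le (by simp) hM hU bot_le hπ
  exact ⟨H, h1, h3⟩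

theorem j_not_dvd_relIndex_of_le {s : ℕ} {S K E : Subgroup G} (hSK : S ≤ K) (hKE : K ≤ E)
    (h : ¬ s ∣ S.relIndex E) : ¬ s ∣ K.relIndex E := by
  intro hd
  apply h
  rw [← relIndex_mul_relIndex S K E hSK hKE]
  exact Dvd.dvd.mul_left hd _

/-- In the configuration of L7, if `P` (of order in `τ₁(M)`) centralizes `Y = C_{M_σ}(R)`, then so
does `E`. -/
theorem j_E_centralizes (hG : IsMinSimpleOddOrder G) (h135 : L135 G) (h7 : L7 G)
    {M H E R : Subgroup G} (c : T3Cfg M H E R) {P : Subgroup G} (hPE : P ≤ E)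
    (hP : Nat.card P ∈ tau1 M) (hYP : cs M R ≤ centralizer (P : Set G)) :
    E ≤ centralizer ((cs M R : Subgroup G) : Set G) := by
  obtain ⟨-, -, -, -, -, hτ2, -, -, hR'⟩ := h7 M H E R c
  have hM := c.hM
  have hE := c.hE
  have hsolvE : Group.IsSolvable E := MS_solvable hG (ne_top_of_le_ne_top hM.1 hE.1)
  have key := eq_of_forall_not_dvd_relIndex
    (K := E ⊓ centralizer ((cs M R : Subgroup G) : Set G)) (D := E) inf_le_left (by
      intro s hs
      haveI : Fact s.Prime := ⟨hs⟩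
      by_cases hsE : s ∣ Nat.card E
      · rcases q_type hG hM hE hs hsE with h | h | h
        · -- `τ₁`
          obtain ⟨E₁, hE₁, hPE₁⟩ := j_hall_ge (π := tau1 M) hsolvE hPE (by
            intro t ht hd
            rwa [(Nat.prime_dvd_prime_iff_eq ht hP.1).1 hd])
          obtain ⟨x, hx, hx1⟩ := exists_ne_one_of_card_prime hP.1 rfl
          have h5 := h135 M E E₁ hM hE hE₁ x (hPE₁ hx) hx1
          have h6 : cs M R ≤ centralizer (E₁ : Set G) := by
            intro y hy
            have h7 : y ∈ sigmaCore M ⊓ centralizer ({x} : Set G) :=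
              ⟨hy.1, centralizer_le (by simpa using hx) (hYP hy)⟩
            rw [h5] at h7
            exact h7.2
          exact j_not_dvd_relIndex_of_le (le_inf hE₁.1 (j_le_centralizer_symm h6)) inf_le_left
            (hE₁.2.2 s hs h)
        · rw [hτ2] at h
          exact absurd h (Set.notMem_empty s)
        · -- `τ₃`
          obtain ⟨S, hS, -⟩ := exists_isSylowIn_ge (bot_le : (⊥ : Subgroup G) ≤ E)
            (IsPGroup.of_bot (p := s))
          have hSc : IsCyclic S := isCyclic_of_pRankLE_one (MS_prime_ne_two hG hsE) hS.2.1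
            (pRankLE_mono (hS.1.trans hE.1) h.2.2.2)
          have hS1 : S ≠ ⊥ := sylow_ne_bot_of_dvd hS hsE
          obtain ⟨w, hw⟩ := exists_prime_orderOf_dvd_card' (G := S) s
            (dvd_card_of_isPGroup_ne_bot' hS.2.1 hS1)
          have hwo : orderOf (w : G) = s := by rw [Subgroup.orderOf_coe, hw]
          have hWc : Nat.card (zpowers (w : G)) = s := by rw [Nat.card_zpowers, hwo]
          have hWS : zpowers (w : G) ≤ S := zpowers_le.2 w.2
          have h5 := hR' (zpowers (w : G)) (hWS.trans hS.1) (by rw [hWc]; exact h)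
          have h6 := j_cs_sylow hG hM hE hS hSc hWS
            (j_ne_bot_of_card_prime (by rw [hWc]; exact hs))
          rw [h5] at h6
          exact j_not_dvd_relIndex_of_le (le_inf hS.1 (j_le_centralizer_symm h6)) inf_le_left
            hS.2.2
      · intro hd
        exact hsE (hd.trans (Subgroup.relIndex_dvd_card _ _)))
  rw [← key]
  exact inf_le_right

/-- **L8b**. -/
theorem l8b (hG : IsMinSimpleOddOrder G) (h135 : L135 G) (hc3 : C3 G) (h6 : L6 G) (h7 : L7 G)
    (h8a : L8a G) : L8b G := by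
  intro M H E R c P hPE hP hYP
  by_contra hPR
  have hU := ut hG
  have hM := c.hM
  have hH := c.hH
  have hE := c.hE
  obtain ⟨-, hpH⟩ := h8a M H E R c P hPE hP hPR
  obtain ⟨hEH, hrH, hdisj, hMH, hMH2, -, -, -, -⟩ := h7 M H E R c
  have hrκ : Nat.card R ∈ kappa M := j_mem_kappa hG hM (c.hRE.trans hE.1) c.hr.1 c.hr.2.1
    c.hr.2.2.2 c.hY
  obtain ⟨-, -, hκH, hX⟩ := h6 M hM R (c.hRE.trans hE.1) hrκ H hH c.hNR
  have hEY := j_E_centralizes hG h135 h7 c hPE hP hYP
  haveI : Fact (Nat.card R).Prime := ⟨c.hr.1⟩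
  haveI : Fact (Nat.card P).Prime := ⟨hP.1⟩
  have hRpg : IsPGroup (Nat.card R) R := IsPGroup.of_card (n := 1) (by rw [pow_one])
  have hPpg : IsPGroup (Nat.card P) P := IsPGroup.of_card (n := 1) (by rw [pow_one])
  have hYH : cs M R ≤ H := by rw [← hMH]; exact inf_le_right
  have hYcard : Nat.card (cs M R) ≠ 1 := fun h => c.hY ((Subgroup.card_eq_one).1 h)
  -- the least prime `q` of `|Y|`
  have hq : (Nat.card (cs M R)).minFac.Prime := Nat.minFac_prime hYcard
  haveI : Fact (Nat.card (cs M R)).minFac.Prime := ⟨hq⟩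
  obtain ⟨x, hx⟩ := exists_prime_orderOf_dvd_card' (G := cs M R) _ (Nat.minFac_dvd _)
  have hxo : orderOf (x : G) = (Nat.card (cs M R)).minFac := by rw [Subgroup.orderOf_coe, hx]
  have hXc : Nat.card (zpowers (x : G)) = (Nat.card (cs M R)).minFac := by
    rw [Nat.card_zpowers, hxo]
  have hXY : zpowers (x : G) ≤ cs M R := zpowers_le.2 x.2
  obtain ⟨hNX, hcsX⟩ := hX (zpowers (x : G)) hXY (by rw [hXc]; exact hq)
  have hqκ := hκH _ hq (Nat.minFac_dvd _)
  -- a complement of `H_σ` over `Y P`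
  have hPY : P ≤ normalizer ((cs M R : Subgroup G) : Set G) :=
    (j_le_centralizer_symm hYP).trans (centralizer_le_normalizer _)
  obtain ⟨E', hE', hKE'⟩ := exists_compl_ge hG hU hH (sup_le (hPE.trans hEH) hYH) (by
    intro s hs hd
    rcases (Nat.Prime.dvd_mul hs).1 (hd.trans (Helper1.card_sup_dvd hPY)) with h | h
    · rw [(Nat.prime_dvd_prime_iff_eq hs hP.1).1 h]; exact hpH
    · exact hdisj s (sc_primes M hs (h.trans (card_dvd_of_le inf_le_left))))
  have hPE' : P ≤ E' := le_sup_left.trans hKE'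
  have hYE' : cs M R ≤ E' := le_sup_right.trans hKE'
  have hRZ : R ≤ cs H (zpowers (x : G)) := by
    rw [hcsX]
    exact le_inf (le_sc hG hU hH hrH (c.hRE.trans hEH) hRpg) (c.hRE.trans hE.1)
  by_cases hd : (Nat.card (cs M R)).minFac ∣ Nat.card ↥⁅H, H⁆
  · -- `q ∈ τ₃(H)`
    have hτ3 : (Nat.card (cs M R)).minFac ∈ tau3 H :=
      ⟨hq, hqκ.2.2.1, hd, q_kappa_rank_one hqκ⟩
    have hsolvE' : Group.IsSolvable E' := MS_solvable hG (ne_top_of_le_ne_top hH.1 hE'.1)
    obtain ⟨E₃, hE₃⟩ := Helper62.exists_isPiHallOf (tau3 H) E' hsolvE'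
    obtain ⟨hE₃c, -, hE₃n⟩ := (Cfsg.Agent.S1415.result hG H hH E' hE').2.2 E₃ hE₃
    have hXE₃ : zpowers (x : G) ≤ E₃ :=
      le_of_normal_of_not_dvd hE₃.1 hE₃n (hE₃.2.2 _ hq hτ3) (hXY.trans hYE')
        (IsPGroup.of_card (n := 1) (by rw [pow_one, hXc]))
    have hE'X : E' ≤ normalizer ((zpowers (x : G) : Subgroup G) : Set G) :=
      hE₃n.trans (normalizer_le_normalizer_of_isCyclic hE₃c hXE₃)
    have hE'M : E' ≤ cs M R ⊔ E := by
      rw [← hMH2]
      exact le_inf (hE'X.trans hNX) hE'.1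
    have hYX : cs M R ≤ centralizer ((zpowers (x : G) : Subgroup G) : Set G) := by
      intro y hy
      have h1 := Helper48.pow_pred_mem_centralizer hXc (hE'X (hYE' hy))
      have h2 : y ^ Nat.card (cs M R) ∈ centralizer ((zpowers (x : G) : Subgroup G) : Set G) := by
        have h3 := pow_card_eq_one' (G := cs M R) (x := ⟨y, hy⟩)
        have h4 : y ^ Nat.card (cs M R) = 1 := congrArg Subtype.val h3
        rw [h4]
        exact one_mem _
      refine Helper34.BG16.mem_of_pow_mem_of_coprime ?_ h1 h2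
      apply Nat.coprime_of_dvd
      intro k hk hk1 hk2
      have h5 := Nat.minFac_le_of_dvd hk.two_le hk2
      have h7 := hq.two_le
      have h6 := Nat.le_of_dvd (by omega) hk1
      omega
    have hEX : E ≤ centralizer ((zpowers (x : G) : Subgroup G) : Set G) :=
      hEY.trans (centralizer_le (by exact_mod_cast hXY))
    have h8 : zpowers (x : G) ≤ E₃ ⊓ centralizer (E' : Set G) :=
      le_inf hXE₃ (j_le_centralizer_symm (hE'M.trans (sup_le hYX hEX)))
    rw [hc3 H E' E₃ hH hE' hE₃] at h8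
    exact j_ne_bot_of_card_prime (by rw [hXc]; exact hq) (le_bot_iff.1 h8)
  · -- `q ∈ τ₁(H)`
    have hτ1 : (Nat.card (cs M R)).minFac ∈ tau1 H :=
      ⟨hq, hqκ.2.2.1, hqκ.2.1, hd, q_kappa_rank_one hqκ⟩
    have hPX : P ≤ centralizer ((zpowers (x : G) : Subgroup G) : Set G) :=
      (j_le_centralizer_symm hYP).trans (centralizer_le (by exact_mod_cast hXY))
    have h28 := Cfsg.Agent.S1428.result hG H hH E' hE' _ hτ1 (zpowers (x : G)) (hXY.trans hYE') hXc P
      (le_inf hPE' hPX) hP.1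
    exact hPR (j_le_centralizer_symm ((hRZ.trans h28).trans inf_le_right))

end Cfsg.Agent.Lib.Helper87.BG14
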