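/- helper31: piece [I] of helper87's BG14 farm (#848): L8a. -/
import Cfsg.Agent.Lib.Helper87.BG14.Defs
import Cfsg.Agent.Lib.Helper87.BG14.H
import Cfsg.Agent.Lib.Helper58.BG13L
import Cfsg.Agent.Lib.Helper24.BG13U
import Cfsg.Agent.Lib.Helper24.BG13BC
import Cfsg.Agent.Lib.Helper24.BG13F
import Cfsg.Agent.Lib.Helper34.BG16a

set_option autoImplicit false
set_option linter.unusedSimpArgs false
set_option linter.unusedVariables false
set_option linter.style.haveILetI false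
set_option linter.unusedSectionVars false

namespace Cfsg.Agent.Lib.Helper87.BG14

open Subgroup Cfsg
open Cfsg.Agent.Lib
open Cfsg.Agent.Lib.Helper24 Cfsg.Agent.Lib.Helper34 Cfsg.Agent.Lib.Helper31.BG11
open Cfsg.Agent.Lib.Helper58.BG139 Cfsg.Agent.Lib.Helper58.BG13L

universe u

variable {G : Type u} [Group G] [Finite G]

theorem l8a (hG : IsMinSimpleOddOrder G) (h5 : L5 G) (h6 : L6 G) (h7 : L7 G) : L8a G := by
  intro M H E R h P hPE hp hPR
  obtain ⟨hEH, hrH, hdis, hMH, -, -, -, -, -⟩ := h7 M H E R h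
  have hM := h.hM
  have hH := h.hH
  have hE := h.hE
  have hU := ut hG
  set p := Nat.card P with hpdef
  haveI : Fact p.Prime := ⟨hp.1⟩
  have hr : (Nat.card R).Prime := h.hr.1
  have hPpg : IsPGroup p P := isPGroup_of_card_prime rfl
  have hP1 : P ≠ ⊥ := ne_bot_of_card_prime hp.1 rfl
  have hR1 : R ≠ ⊥ := ne_bot_of_card_prime hr rfl
  have hPM : P ≤ M := hPE.trans hE.1
  have hER : E ≤ normalizer (R : Set G) := T3Cfg.E_norm98 hG hM hE h.hRE h.hr
  have hRP : ¬ R ≤ centralizer (P : Set G) := fun hc => hPR (le_centralizer_iff.1 hc)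
  have hinf : R ⊓ centralizer (P : Set G) = ⊥ :=
    Helper24.BG13U.inf_eq_bot_of_card_prime hr rfl hRP
  have first : ¬ cs M P ≤ cs M R := by
    intro hle
    have hcop : (Nat.card (sigmaCore M)).Coprime (Nat.card ↥(R ⊔ P)) :=
      (Nat.Coprime.coprime_dvd_left (card_dvd_of_le (sup_le h.hRE hPE))
        (compl_coprime98 hG hM hE)).symm
    have hcent : sigmaCore M ≤ centralizer (R : Set G) :=
      Helper24.BG13F.frob_centralizes hR1 hP1 (hPE.trans hER)
        (Helper24.BG13BC.fpf_of_inf hp.1 rfl hinf)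
        ((h.hRE.trans hE.1).trans (sc_norm M)) (hPM.trans (sc_norm M))
        (MS_solvable hG (ne_top_of_le_ne_top hM.1 (sc_le M))) hcop (hle.trans inf_le_right)
    have hσH : sigmaCore M ≤ H := hcent.trans ((centralizer_le_normalizer' R).trans h.hNR)
    have hMleH : M ≤ H := by
      intro m hm
      obtain ⟨e, he, s, hs, rfl⟩ := hE.2.2.2 m hm
      exact mul_mem (hEH he) (hσH hs)
    have hMH' : M = H := by
      by_contra hne
      exact hH.1 (hM.2 H (lt_of_le_of_ne hMleH hne))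
    exact h.hr.2.1 (hMH' ▸ hrH)
  refine ⟨first, fun hpH => ?_⟩
  have hne : cs M P ≠ ⊥ := fun hb => first (hb ▸ bot_le)
  -- `p ∈ κ(M)`
  obtain ⟨w, hw, hwo⟩ := exists_orderOf_eq_prime hPpg hP1
  obtain ⟨y, hy, hy1⟩ := exists_ne_one_of_ne_bot98 hne
  have hκ : p ∈ kappa M := BG16.mem_kappa_of hG hM hp.1 hp.2.1 hp.2.2.2.2 (hPM hw) hwo hy.1 hy1
    ((mem_centralizer_iff.1 hy.2 w hw))
  obtain ⟨HP, hHP, hNHP⟩ := exists_coatom_ge (MS_normalizer_ne_top hG hP1 (MS_isPGroup_ne_top hG hPpg))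
  have hpHP : p ∈ sigma HP := h5 M hM P hPM hκ HP hHP hNHP
  have hHPH : HP = H := by
    by_contra hne'
    exact (Helper91.BG13.tau2_compl hG (h1378 hG) hH hHP hne' hpH hPpg hP1 (hPE.trans hEH) hNHP).1.2.1
      hpHP
  have h6' := (h6 M hM P hPM hκ H hH (hHPH ▸ hNHP)).2.1
  apply first
  rw [← h6', hMH]

end Cfsg.Agent.Lib.Helper87.BG14
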