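/-
Bender–Glauberman sections 13-14, piece [M] of bulletin #848 (helper67): L8e (HALF).
-/
import Cfsg.Agent.Lib.Helper87.BG14.Defs
import Cfsg.Agent.Lib.Helper58.BG139A
import Cfsg.Agent.Lib.Helper34.BG16a
import Cfsg.Agent.Lib.Helper9.BG12h
import Cfsg.Agent.S1428
import Cfsg.Agent.Lib.Helper72.BG139E

set_option autoImplicit false
set_option linter.unusedSimpArgs false
set_option linter.unusedVariables false
set_option linter.style.haveILetI false
set_option linter.unusedSectionVars false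

namespace Cfsg.Agent.Lib.Helper87.BG14

universe u

section ByHelper72


open Subgroup Cfsg
open Cfsg.Agent.Lib.Helper34 Cfsg.Agent.Lib.Helper24 Cfsg.Agent.Lib.Helper31.BG11
open Cfsg.Agent.Lib.Helper34.BG13 Cfsg.Agent.Lib.Helper72.BG139


variable {G : Type u} [Group G]

/-- A `t`-subgroup `X₀` of `C_M(P)` (`t ∉ σ(M)`, `t ≠ p`, `P ≤ E` a `p`-group, `p ∉ σ(M)`) is conjugate
under `C_M(P)` to a subgroup of the complement `E`. -/
theorem l8e_conj_into_compl [Finite G] {M E P X0 : Subgroup G}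
    (hE : IsComplIn E (sigmaCore M) M) {p t : ℕ} (hp : p.Prime) (ht : t.Prime)
    (hPE : P ≤ E) (hPp : IsPGroup p P) (hpσ : p ∉ sigma M) (htσ : t ∉ sigma M) (htp : t ≠ p)
    (hX0 : IsPGroup t X0) (hX0M : X0 ≤ M) (hX0P : X0 ≤ centralizer (P : Set G)) :
    ∃ k ∈ M ⊓ centralizer (P : Set G), cj k X0 ≤ E ⊓ centralizer (P : Set G) := by
  haveI : Fact p.Prime := ⟨hp⟩
  haveI : Fact t.Prime := ⟨ht⟩
  have hPM : P ≤ M := hPE.trans hE.1
  have hpS : ¬ p ∣ Nat.card (sigmaCore M) := fun h => hpσ (sc_primes M hp h)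
  have htS : ¬ t ∣ Nat.card (sigmaCore M) := fun h => htσ (sc_primes M ht h)
  set K : Subgroup G := sigmaCore M ⊔ X0 with hKdef
  have hKM : K ≤ M := sup_le (sc_le M) hX0M
  have hKc : Nat.card K ∣ Nat.card (sigmaCore M) * Nat.card X0 :=
    Cfsg.Agent.Lib.Helper22.card_sup_dvd (hX0M.trans (sc_norm M))
  have hpK : ¬ p ∣ Nat.card K := by
    intro h
    rcases (Nat.Prime.dvd_mul hp).1 (h.trans hKc) with h | h
    · exact hpS h
    · obtain ⟨k, hk⟩ := IsPGroup.iff_card.1 hX0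
      rw [hk] at h
      exact htp ((Nat.prime_dvd_prime_iff_eq hp ht).1 (hp.dvd_of_dvd_pow h)).symm
  have hPK : P ≤ normalizer (K : Set G) := by
    refine le_trans (le_inf (hPM.trans (sc_norm M)) ?_)
      (Subgroup.normalizer_inf_normalizer_le_normalizer_sup (sigmaCore M) X0)
    exact (Subgroup.le_centralizer_iff.1 hX0P).trans (Subgroup.centralizer_le_normalizer (X0 : Set G))
  set K0 : Subgroup G := K ⊓ E with hK0def
  have hPK0 : P ≤ normalizer (K0 : Set G) :=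
    le_trans (le_inf hPK (hPE.trans Subgroup.le_normalizer))
      Subgroup.inf_normalizer_le_normalizer_inf
  have hKle : K ≤ sigmaCore M ⊔ K0 := by
    refine sup_le le_sup_left ?_
    intro x hx
    obtain ⟨a, ha, b, hb, rfl⟩ := hE.2.2.2 x (hX0M hx)
    have haK : a ∈ K := by
      have h1 : a = (a * b) * b⁻¹ := by group
      rw [h1]
      exact K.mul_mem ((le_sup_right : X0 ≤ K) hx) (K.inv_mem ((le_sup_left : sigmaCore M ≤ K) hb))
    exact Subgroup.mul_mem _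
      ((le_sup_right : K0 ≤ sigmaCore M ⊔ K0) (Subgroup.mem_inf.2 ⟨haK, ha⟩))
      ((le_sup_left : sigmaCore M ≤ sigmaCore M ⊔ K0) hb)
  have hidx : ¬ t ∣ K0.relIndex K := by
    intro h
    apply htS
    refine h.trans ?_
    have h1 : Nat.card K ∣ Nat.card (sigmaCore M) * Nat.card K0 :=
      (Subgroup.card_dvd_of_le hKle).trans (Cfsg.Agent.Lib.Helper22.card_sup_dvd
        ((inf_le_left.trans hKM : K0 ≤ M).trans (sc_norm M)))
    rw [← Cfsg.Agent.Lib.Helper1.relIndex_mul_card (inf_le_left : K0 ≤ K)] at h1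
    exact Nat.dvd_of_mul_dvd_mul_right Nat.card_pos h1
  obtain ⟨k, hk, hkX⟩ := Cfsg.Agent.Lib.Helper24.BG13F.gap (p := p) (t := t)
    hPp hpK hPK inf_le_left hPK0 hidx hX0 le_sup_right hX0P
  refine ⟨k, ⟨hKM hk.1, hk.2⟩, le_inf (hkX.trans inf_le_right) ?_⟩
  have h1 := cj_mono k hX0P
  rwa [show cj k (centralizer (P : Set G)) = centralizer (P : Set G) from
    map_conj_eq_self_of_mem hk.2] at h1

end ByHelper72

section ByHelper67

open Subgroup Cfsg
open Cfsg.Agent.Lib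
open Cfsg.Agent.Lib.Helper24 Cfsg.Agent.Lib.Helper34 Cfsg.Agent.Lib.Helper31.BG11
open Cfsg.Agent.Lib.Helper34.BG13 Cfsg.Agent.Lib.Helper34.BG16


variable {G : Type u} [Group G] [Finite G]

/-- `C_M(P) = C_{M_σ}(P) C_E(P)` for `P ≤ E`. -/
theorem l8e_prod {M E P : Subgroup G} (hE : IsComplIn E (sigmaCore M) M) (hPE : P ≤ E) :
    ∀ x ∈ M ⊓ centralizer (P : Set G), ∃ b ∈ cs M P, ∃ d ∈ E ⊓ centralizer (P : Set G),
      x = b * d := by
  intro x hx
  obtain ⟨e, he, s, hs, rfl⟩ := hE.2.2.2 x hx.1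
  have hnorm : ∀ m ∈ M, ∀ y ∈ sigmaCore M, m * y * m⁻¹ ∈ sigmaCore M := fun m hm y hy =>
    le_normalizer_iff.mp (sc_norm M) m hm y hy
  have hb : e * s * e⁻¹ ∈ sigmaCore M := hnorm e (hE.1 he) s hs
  -- `e` centralizes `P`
  have key : ∀ y ∈ P, e * y * e⁻¹ = y := by
    intro y hy
    have h1 : y * (e * s) = e * s * y := mem_centralizer_iff.mp hx.2 y hy
    set z := e * y * e⁻¹ with hz
    have hzE : z ∈ E := E.mul_mem (E.mul_mem he (hPE hy)) (E.inv_mem he)
    -- `b z b⁻¹ = y`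
    have h2 : (e * s * e⁻¹) * z * (e * s * e⁻¹)⁻¹ = y := by
      have : (e * s * e⁻¹) * z * (e * s * e⁻¹)⁻¹ = (e * s * y) * (e * s)⁻¹ := by
        rw [hz]; group
      rw [this, ← h1]; group
    have h3 : z⁻¹ * (e * s * e⁻¹) * z * (e * s * e⁻¹)⁻¹ = z⁻¹ * y := by
      rw [← h2]; group
    have h4 : z⁻¹ * (e * s * e⁻¹) * z * (e * s * e⁻¹)⁻¹ ∈ sigmaCore M := by
      apply (sigmaCore M).mul_mem _ ((sigmaCore M).inv_mem hb)
      have := hnorm z⁻¹ (hE.1 (E.inv_mem hzE)) _ hb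
      simpa using this
    have h5 : z⁻¹ * y ∈ E ⊓ sigmaCore M :=
      ⟨E.mul_mem (E.inv_mem hzE) (hPE hy), by rw [← h3]; exact h4⟩
    rw [hE.2.2.1, mem_bot] at h5
    exact (inv_mul_eq_one.mp h5)
  have heC : e ∈ centralizer (P : Set G) := by
    rw [mem_centralizer_iff]
    intro y hy
    have := key y hy
    calc y * e = (e * y * e⁻¹) * e := by rw [this]
      _ = e * y := by group
  refine ⟨e * s * e⁻¹, ⟨hb, ?_⟩, e, ⟨he, heC⟩, by group⟩
  have h6 : e * s * e⁻¹ = (e * s) * e⁻¹ := rfl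
  rw [h6]
  exact (centralizer (P : Set G)).mul_mem hx.2 ((centralizer (P : Set G)).inv_mem heC)

/-- A subgroup of `C_M(P)` of order prime to `|M_σ|` is conjugate in `C_M(P)` into `C_E(P)`. -/
theorem l8e_conj (hG : IsMinSimpleOddOrder G) {M E P X : Subgroup G} (hM : IsCoatom M)
    (hE : IsComplIn E (sigmaCore M) M) (hPE : P ≤ E) (hX : X ≤ M ⊓ centralizer (P : Set G))
    (hXσ : ∀ r : ℕ, r.Prime → r ∣ Nat.card X → r ∉ sigma M) :
    ∃ l ∈ M ⊓ centralizer (P : Set G), cj l X ≤ E ⊓ centralizer (P : Set G) := by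
  have hU : UT G := Helper58.BG139.ut hG
  have hLtop : M ⊓ centralizer (P : Set G) ≠ ⊤ := ne_top_of_le_ne_top hM.1 inf_le_left
  apply Helper9.BG12.conj_into_of_normal_hall (B := cs M P) (MS_solvable hG hLtop)
    (inf_le_inf_right _ (sc_le M))
  · exact Helper22.le_normalizer_inf (inf_le_left.trans (sc_norm M))
      (inf_le_right.trans le_normalizer)
  · apply Nat.coprime_of_dvd
    intro k hk hkB hkI
    haveI : Fact k.Prime := ⟨hk⟩
    have hkσ : k ∈ sigma M := sc_primes M hk (hkB.trans (Subgroup.card_dvd_of_le inf_le_left))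
    obtain ⟨S, hS, -⟩ := exists_isSylowIn_ge
      (bot_le : (⊥ : Subgroup G) ≤ M ⊓ centralizer (P : Set G)) (IsPGroup.of_bot (p := k))
    have hSB : S ≤ cs M P :=
      le_inf (le_sc hG hU hM hkσ (hS.1.trans inf_le_left) hS.2.1) (hS.1.trans inf_le_right)
    apply hS.2.2
    rw [← relIndex_mul_relIndex S (cs M P) _ hSB (inf_le_inf_right _ (sc_le M))]
    exact Dvd.dvd.mul_left hkI _
  · exact inf_le_inf_right _ hE.1
  · exact l8e_prod hE hPE
  · exact hX
  · apply Nat.coprime_of_dvd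
    intro k hk hkX hkB
    exact hXσ k hk hkX (sc_primes M hk (hkB.trans (Subgroup.card_dvd_of_le inf_le_left)))

theorem l8e (hG : IsMinSimpleOddOrder G) (h7 : L7 G) : L8e G := by
  intro M H E R cfg P hPE hPτ hnPR hnRP T hT hTσ
  have hU : UT G := Helper58.BG139.ut hG
  obtain ⟨hEH, hrσH, hdisj, hMsH, hMH, hτ2, hZE, hYZ, hR'⟩ := h7 M H E R cfg
  by_contra hT1
  have hc1 : Nat.card T ≠ 1 := fun h => hT1 ((Subgroup.card_eq_one).1 h)
  obtain ⟨t, ht, htT⟩ := Nat.exists_prime_and_dvd hc1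
  haveI : Fact t.Prime := ⟨ht⟩
  obtain ⟨X, hXT, hXc⟩ := Helper9.BG12.exists_card_prime_le ht htT
  have htH : t ∈ sigma H := hTσ t ht htT
  have htM : t ∉ sigma M := fun h => hdisj t h htH
  obtain ⟨l, hl, hlX⟩ := l8e_conj hG cfg.hM cfg.hE hPE (hXT.trans hT) (by
    intro r hr hrX
    rw [hXc] at hrX
    rw [(Nat.prime_dvd_prime_iff_eq hr ht).1 hrX]
    exact htM)
  set X' := cj l X with hX'
  have hX'c : Nat.card X' = t := by rw [hX', card_map_conj, hXc]
  have hX'pg : IsPGroup t X' := IsPGroup.of_card (n := 1) (by rw [hX'c, pow_one])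
  have hX'E : X' ≤ E := hlX.trans inf_le_left
  have hX'P : X' ≤ centralizer (P : Set G) := hlX.trans inf_le_right
  have htdM : t ∣ Nat.card M := by
    rw [← hX'c]; exact Subgroup.card_dvd_of_le (hX'E.trans cfg.hE.1)
  have hrank : PRankLE t 1 M := by
    rcases tau2_or_rank_one hG hU cfg.hM ht htM with h | h
    · rw [hτ2] at h; exact absurd h (Set.notMem_empty _)
    · exact h
  by_cases hder : t ∣ Nat.card ↥⁅M, M⁆
  · -- `t ∈ τ₃(M)`
    have h3 : Nat.card X' ∈ tau3 M := by rw [hX'c]; exact ⟨ht, htM, hder, hrank⟩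
    apply hnPR
    rw [← hR' X' hX'E h3]
    exact Cfsg.Agent.S1428.result hG M cfg.hM E cfg.hE (Nat.card P) hPτ P hPE rfl X'
      (le_inf hX'E hX'P) (by rw [hX'c]; exact ht)
  · -- `t ∈ τ₁(M)`
    have h1 : t ∈ tau1 M := ⟨ht, htM, htdM, hder, hrank⟩
    apply hnRP
    have hX'Z : X' ≤ sigmaCore H ⊓ M :=
      le_inf (le_sc hG hU cfg.hH htH (hX'E.trans hEH) hX'pg) (hX'E.trans cfg.hE.1)
    have h2 : cs M R ≤ cs M X' :=
      le_inf inf_le_left (hYZ.trans (centralizer_le hX'Z))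
    have h3 := Cfsg.Agent.S1428.result hG M cfg.hM E cfg.hE t h1 X' hX'E hX'c P
      (le_inf hPE (le_centralizer_iff.mp hX'P)) hPτ.1
    exact (h2.trans h3).trans inf_le_right

end ByHelper67

end Cfsg.Agent.Lib.Helper87.BG14
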