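/-
Bender–Glauberman sections 13-14, piece [R] of bulletin #848 (helper67): Lemma V (BG 13.6 / 14.2(c)).
-/
import Cfsg.Agent.Lib.Helper87.BG14.Defs
import Cfsg.Agent.Lib.Helper58.BG139A
import Cfsg.Agent.Lib.Helper34.BG16a
import Cfsg.Agent.Lib.Helper9.BG12h
import Cfsg.Agent.Lib.Helper72.BG139E
import Cfsg.Agent.S1426
import Cfsg.Agent.Lib.Helper87.BG14.L8g
import Cfsg.Agent.Lib.Helper62.HallCoprime

set_option autoImplicit false
set_option linter.unusedSimpArgs false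
set_option linter.unusedVariables false
set_option linter.style.haveILetI false
set_option linter.unusedSectionVars false

namespace Cfsg.Agent.Lib.Helper87.BG14

universe u

section ByHelper72


open Subgroup Cfsg
open Cfsg.Agent.Lib.Helper34 Cfsg.Agent.Lib.Helper24 Cfsg.Agent.Lib.Helper31.BG11
open Cfsg.Agent.Lib.Helper34.BG13 Cfsg.Agent.Lib.Helper72.BG139


variable {G : Type u} [Group G]

/-- For `r ∈ κ(M)` every complement `E` of `M_σ` contains a subgroup `R` of order `r` with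
`C_{M_σ}(R) ≠ 1`. -/
theorem lv_exists_kappa_sub [Finite G] {M E : Subgroup G} (hE : IsComplIn E (sigmaCore M) M)
    {r : ℕ} (hr : r ∈ kappa M) : ∃ R : Subgroup G, R ≤ E ∧ Nat.card R = r ∧ cs M R ≠ ⊥ := by
  haveI : Fact r.Prime := ⟨hr.1⟩
  obtain ⟨S, hS, -⟩ := exists_isSylowIn_ge (p := r) (L := E) (R := ⊥) bot_le IsPGroup.of_bot
  have hSM : IsSylowIn r S M := compl_sylow hE hr.2.2.1 hS
  obtain ⟨-, x, hxS, hx1, y, hy, hy1, hxy⟩ := hr.2.2.2 hSM.toSylow
  rw [← SetLike.mem_coe, hSM.coe_toSylow] at hxS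
  have hxS' : (x : G) ∈ S := Subgroup.mem_subgroupOf.1 hxS
  have hz1 : zpowers (x : G) ≠ ⊥ := by
    intro h
    apply hx1
    have : (x : G) = 1 := (Subgroup.zpowers_eq_bot).1 h
    exact Subtype.ext this
  obtain ⟨R, r', hr', hRc, hr'd, hRle⟩ := exists_prime_card_le hz1
  have hzS : zpowers (x : G) ≤ S := (Subgroup.zpowers_le).2 hxS'
  have hrr : r' = r := by
    obtain ⟨k, hk⟩ := IsPGroup.iff_card.1 (hS.2.1.to_le hzS)
    rw [hk] at hr'd
    exact (Nat.prime_dvd_prime_iff_eq hr' hr.1).1 (hr'.dvd_of_dvd_pow hr'd)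
  refine ⟨R, hRle.trans (hzS.trans hS.1), hRc.trans hrr, ?_⟩
  intro hbot
  apply hy1
  have hyc : y ∈ cs M R := by
    refine Subgroup.mem_inf.2 ⟨hy, ?_⟩
    rw [Subgroup.mem_centralizer_iff]
    intro z hz
    obtain ⟨k, rfl⟩ := Subgroup.mem_zpowers_iff.1 (hRle hz)
    exact ((Commute.zpow_left (show Commute (x : G) y from hxy) k)).eq
  rw [hbot] at hyc
  exact Subgroup.mem_bot.1 hyc

end ByHelper72

section ByHelper67

open Subgroup Cfsg
open Cfsg.Agent.Lib
open Cfsg.Agent.Lib.Helper24 Cfsg.Agent.Lib.Helper34 Cfsg.Agent.Lib.Helper31.BG11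
open Cfsg.Agent.Lib.Helper34.BG13 Cfsg.Agent.Lib.Helper34.BG16


variable {G : Type u} [Group G] [Finite G]

theorem lv_rank_one {L : Subgroup G} {p : ℕ} (h : p ∈ kappa L) : PRankLE p 1 L := by
  haveI : Fact p.Prime := ⟨h.1⟩
  obtain ⟨P⟩ : Nonempty (Sylow p L) := inferInstance
  haveI := (h.2.2.2 P).1
  haveI : IsCyclic ↥((P : Subgroup L).map L.subtype) :=
    isCyclic_of_surjective (L.subtype.subgroupMap (P : Subgroup L))
      (MonoidHom.subgroupMap_surjective _ _)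
  exact pRankLE_of_isSylowIn (Sylow.isSylowIn_map P) (pRankLE_one_of_isCyclic h.1.pos)

/-- In a solvable subgroup, a `π`-subgroup lies in a Hall `π`-subgroup. -/
theorem lv_hall_ge {π : Set ℕ} {M U : Subgroup G} (hM : Group.IsSolvable M) (hU : U ≤ M)
    (hπ : ∀ p : ℕ, p.Prime → p ∣ Nat.card U → p ∈ π) : ∃ H, IsPiHallOf π H M ∧ U ≤ H := by
  obtain ⟨H, h1, _, h3⟩ := Cfsg.Agent.Lib.Helper62.invariant_le_invariant_hall_aux π _ G ⊥ M U rfl
    bot_le (by simp) hM hU bot_le hπ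
  exact ⟨H, h1, h3⟩

/-- `C_{M_σ}(R) ≠ 1` for every subgroup `R ≤ M` of order `r ∈ κ(M)`. -/
theorem lv_cs_ne_bot {M R : Subgroup G} {r : ℕ} (hκ : r ∈ kappa M) (hRM : R ≤ M)
    (hRc : Nat.card R = r) : cs M R ≠ ⊥ := by
  have hr : r.Prime := hκ.1
  haveI : Fact r.Prime := ⟨hr⟩
  have hRpg : IsPGroup r R := IsPGroup.of_card (n := 1) (by rw [hRc, pow_one])
  obtain ⟨Q, hQ, hRQ⟩ := exists_isSylowIn_ge hRM hRpg
  obtain ⟨-, x, hxQ, hx1, y, hy, hy1, hxy⟩ := hκ.2.2.2 hQ.toSylow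
  rw [hQ.coe_toSylow, mem_subgroupOf] at hxQ
  have hx1' : (x : G) ≠ 1 := fun h => hx1 (Subtype.ext h)
  -- a power of `x` of order `r`
  have ho1 : orderOf (x : G) ≠ 1 := fun h => hx1' (orderOf_eq_one_iff.1 h)
  set x' : G := (x : G) ^ (orderOf (x : G) / (orderOf (x : G)).minFac) with hx'
  have hx'o : orderOf x' = (orderOf (x : G)).minFac := by
    rw [hx', orderOf_pow_orderOf_div (orderOf_pos (x : G)).ne' (Nat.minFac_dvd _)]
  have hx'Q : x' ∈ Q := Q.pow_mem hxQ _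
  have hmf : (orderOf (x : G)).minFac = r := by
    obtain ⟨k, hk⟩ := (IsPGroup.iff_orderOf.1 hQ.2.1) ⟨(x : G), hxQ⟩
    rw [Subgroup.orderOf_mk] at hk
    have h1 : (orderOf (x : G)).minFac ∣ r ^ k := hk ▸ Nat.minFac_dvd _
    exact (Nat.prime_dvd_prime_iff_eq (Nat.minFac_prime ho1) hr).1
      ((Nat.minFac_prime ho1).dvd_of_dvd_pow h1)
  have hx'r : x' ^ r = 1 := by rw [← hmf, ← hx'o]; exact pow_orderOf_eq_one x'
  have hx'1 : x' ≠ 1 := by
    intro h
    rw [h, orderOf_one, hmf] at hx'o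
    exact hr.one_lt.ne hx'o
  have hx'R : x' ∈ R :=
    Helper72.BG139.mem_of_rank_one hQ.2.1 (pRankLE_mono hQ.1 (lv_rank_one hκ)) hRc hRQ x' hx'Q hx'r
  intro hbot
  apply hy1
  have h2 : y ∈ cs M R := by
    have h3 : y ∈ centralizer (R : Set G) := by
      rw [centralizer_eq_of_card_prime hr hRc hx'R hx'1, mem_centralizer_singleton_iff]
      have hc : Commute (x : G) y := hxy
      exact ((hc.pow_left _).eq).symm
    exact ⟨hy, h3⟩
  rw [hbot, mem_bot] at h2
  exact h2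

theorem lv (hG : IsMinSimpleOddOrder G) (h2 : L2 G) (h9 : L9 G) (h10 : L10 G) (h135 : L135 G) :
    LV G := by
  intro M K hM hK hK1 X hX hXp
  have hU : UT G := Helper58.BG139.ut hG
  by_cases hβ : Nat.card X ∈ beta M
  · exact Or.inl hβ
  right
  have hc1 : Nat.card K ≠ 1 := fun h => hK1 ((Subgroup.card_eq_one).1 h)
  obtain ⟨p, hp, hpK⟩ := Nat.exists_prime_and_dvd hc1
  have hpκ : p ∈ kappa M := hK.2.1 p hp hpK
  obtain ⟨P, hPK, hPc⟩ := Helper9.BG12.exists_card_prime_le hp hpK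
  have hXP : X ≤ cs M P := le_inf (hX.trans inf_le_left)
    ((hX.trans inf_le_right).trans (centralizer_le hPK))
  by_cases hA : ∃ r ∈ tau3 M, r ∈ kappa M
  · -- Case A
    obtain ⟨r, hr3, hrκ⟩ := hA
    have hr : r.Prime := hr3.1
    obtain ⟨E, hE, hKE⟩ := exists_compl_ge hG hU hM hK.1
      (fun s hs hd => (hK.2.1 s hs hd).2.2.1)
    have hrE : r ∣ Nat.card E := by
      have h3 := Helper23.complIn_card_mul hE
      have h4 : r ∣ Nat.card E * Nat.card (sigmaCore M) := by rw [h3]; exact hrκ.2.1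
      exact (hr.dvd_mul.1 h4).resolve_right (fun hd => hr3.2.1 (sc_primes M hr hd))
    obtain ⟨R, hRE, hRc⟩ := Helper9.BG12.exists_card_prime_le hr hrE
    obtain ⟨-, hreg, -, -⟩ := h9 M E R hM hE hRE (by rw [hRc]; exact hr3)
      (lv_cs_ne_bot hrκ (hRE.trans hE.1) hRc)
    obtain ⟨k, hk, hk1⟩ := exists_ne_one_of_card_prime hp hPc
    have h5 : X ≤ cs M E := by
      rw [← hreg k (hKE (hPK hk)) hk1]
      exact le_inf (hX.trans inf_le_left)
        ((hXP.trans inf_le_right).trans (centralizer_le (by simpa using hk)))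
    exact h5.trans (Cfsg.Agent.S1426.result hG M hM E hE).1
  · -- Case B
    push Not at hA
    have hκne : (kappa M).Nonempty := ⟨p, hpκ⟩
    -- `κ(M) = τ₁(M)`
    have hκτ : kappa M = tau1 M := by
      obtain ⟨E0, hE0⟩ := exists_compl hG hU hM
      have hE0s : Group.IsSolvable E0 := MS_solvable hG (ne_top_of_le_ne_top hM.1 hE0.1)
      obtain ⟨K0, hK0, -⟩ := lv_hall_ge (π := tau1 M) hE0s (bot_le : (⊥ : Subgroup G) ≤ E0) (by
        intro s hs hd
        rw [card_bot] at hd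
        exact absurd (Nat.dvd_one.1 hd) hs.one_lt.ne')
      exact (h10 M E0 K0 hM hE0 hK0 hκne hA).1
    have hpτ : p ∈ tau1 M := hκτ ▸ hpκ
    obtain ⟨E, hE, hPE, hEN, hEC⟩ := h2 M hM p hp hpκ.2.2.1 (lv_rank_one hpκ) P
      (hPK.trans hK.1) hPc X hXP hXp hβ
    have hEs : Group.IsSolvable E := MS_solvable hG (ne_top_of_le_ne_top hM.1 hE.1)
    obtain ⟨K', hK', hPK'⟩ := lv_hall_ge (π := tau1 M) hEs hPE (by
      intro s hs hd
      rw [hPc] at hd
      rw [(Nat.prime_dvd_prime_iff_eq hs hp).1 hd]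
      exact hpτ)
    obtain ⟨-, -, U, hUE', -, -, hUh, -⟩ := h10 M E K' hM hE hK' hκne hA
    -- `K'` centralizes `X`
    obtain ⟨k, hk, hk1⟩ := exists_ne_one_of_card_prime hp hPc
    have h6 : X ≤ cs M K' := by
      rw [← h135 M E K' hM hE hK' k (hPK' hk) hk1]
      exact le_inf (hX.trans inf_le_left)
        ((hXP.trans inf_le_right).trans (centralizer_le (by simpa using hk)))
    have hK'C : K' ≤ centralizer (X : Set G) := le_centralizer_iff.mp (h6.trans inf_le_right)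
    have hUC : U ≤ centralizer (X : Set G) := hUE'.trans hEC
    -- `E = U K'`
    have hsup : K' ⊔ U = E := by
      have hle : K' ⊔ U ≤ E := sup_le hK'.1 hUh.1
      apply Subgroup.eq_of_le_of_card_ge hle
      have h7 := Helper58.BG139.card_mul_of_hall hK' hUh
      have hcop : (Nat.card K').Coprime (Nat.card U) :=
        Nat.coprime_of_dvd fun s hs h1 h2 => (hUh.2.1 s hs h2).2 (hK'.2.1 s hs h1)
      have h8 : Nat.card K' * Nat.card U ∣ Nat.card (K' ⊔ U : Subgroup G) :=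
        hcop.mul_dvd_of_dvd_of_dvd (Subgroup.card_dvd_of_le le_sup_left)
          (Subgroup.card_dvd_of_le le_sup_right)
      rw [← h7]
      exact Nat.le_of_dvd Nat.card_pos h8
    have hECX : E ≤ centralizer (X : Set G) := by
      rw [← hsup]; exact sup_le hK'C hUC
    have h9' : X ≤ cs M E := le_inf (hX.trans inf_le_left) (le_centralizer_iff.mp hECX)
    exact h9'.trans (Cfsg.Agent.S1426.result hG M hM E hE).1

end ByHelper67

end Cfsg.Agent.Lib.Helper87.BG14
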