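/-
Piece [O] of helper87's BG14 farm (backup version written by helper72): `L8f`, `L8`.
-/
import Cfsg.Agent.Lib.Helper87.BG14.Defs
import Cfsg.Agent.Lib.Helper87.BG14.Gam
import Cfsg.Agent.Lib.Helper87.BG14.J
import Cfsg.Agent.Lib.Helper72.BG139E

set_option autoImplicit false
set_option linter.unusedSimpArgs false
set_option linter.unusedVariables false
set_option linter.style.haveILetI false
set_option linter.unusedSectionVars false

namespace Cfsg.Agent.Lib.Helper87.BG14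

open Subgroup Cfsg
open Cfsg.Agent.Lib.Helper34 Cfsg.Agent.Lib.Helper24 Cfsg.Agent.Lib.Helper31.BG11
open Cfsg.Agent.Lib.Helper34.BG13

universe u

variable {G : Type u} [Group G] [Finite G]

/-- One half of the end of `L8f`. -/
theorem o72_half (hG : IsMinSimpleOddOrder G) (h6 : L6 G) (h8e : L8e G)
    {M H E R P T : Subgroup G} {c : G} (c1 : T3Cfg M H E R) (hPE : P ≤ E)
    (hPτ : Nat.card P ∈ tau1 M) (hκ : Nat.card P ∈ kappa M)
    (hnD : ¬ cs M P ≤ cs M R) (hnY : ¬ cs M R ≤ centralizer (P : Set G))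
    (hD2 : cs H P ≠ ⊥) (hc : c ∈ centralizer (P : Set G)) (hT : T ≤ cs M P)
    (hTp : (Nat.card T).Prime) (hN : cj c (cs H P) ≤ normalizer (T : Set G)) : False := by
  have hp : (Nat.card P).Prime := hPτ.1
  haveI : Fact (Nat.card P).Prime := ⟨hp⟩
  have hP1 : P ≠ ⊥ := Cfsg.Agent.Lib.Helper72.BG139.ne_bot_of_prime_card hp rfl
  have hPtop : P ≠ ⊤ :=
    MS_isPGroup_ne_top hG (p := Nat.card P) (IsPGroup.of_card (n := 1) (by rw [pow_one]))
  obtain ⟨HP, hHP, hNHP⟩ := exists_coatom_ge (MS_normalizer_ne_top hG hP1 hPtop)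
  have hNT : normalizer (T : Set G) ≤ M :=
    ((h6 M c1.hM P (hPE.trans c1.hE.1) hκ HP hHP hNHP).2.2.2 T hT hTp).1
  have h1 : cj c (cs H P) ≤ M ⊓ centralizer (P : Set G) := by
    refine le_inf (hN.trans hNT) ?_
    have h2 := cj_mono c (inf_le_right : cs H P ≤ centralizer (P : Set G))
    rwa [show cj c (centralizer (P : Set G)) = centralizer (P : Set G) from
      map_conj_eq_self_of_mem hc] at h2
  have h3 := h8e M H E R c1 P hPE hPτ hnD hnY (cj c (cs H P)) h1 (by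
    intro t ht hd
    rw [show Nat.card (cj c (cs H P)) = Nat.card (cs H P) from card_map_conj c _] at hd
    exact sc_primes H ht (hd.trans (Subgroup.card_dvd_of_le inf_le_left)))
  exact hD2 ((Subgroup.map_eq_bot_iff_of_injective _ (MulAut.conj c).injective).1 h3)

/-- **Piece [O]**, first part. -/
theorem l8f72 (hG : IsMinSimpleOddOrder G) (h1 : L1 G) (h6 : L6 G) (h7 : L7 G) (h8a : L8a G)
    (h8e : L8e G) (h8g : L8g G) : L8f G := by
  intro M H E R E' X P c1 c2 hPE hPE' hPτM hPτH hPR hPX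
  obtain ⟨hEH, hrH, hσσ, hMσH, -, -, -, -, -⟩ := h7 M H E R c1
  obtain ⟨hE'M, hxM, hσσ', hHσM, -, -, -, -, -⟩ := h7 H M E' X c2
  have hp : (Nat.card P).Prime := hPτM.1
  haveI : Fact (Nat.card P).Prime := ⟨hp⟩
  have hU := Cfsg.Agent.Lib.Helper72.BG139.ut hG
  -- `X ≤ C_{M_σ}(R)`, `R ≤ C_{H_σ}(X)`
  have hXY : X ≤ cs M R := by
    haveI : Fact (Nat.card X).Prime := ⟨c2.hr.1⟩
    rw [← hMσH]
    exact le_inf (le_sc hG hU c1.hM hxM (c2.hRE.trans hE'M)
      (IsPGroup.of_card (n := 1) (by rw [pow_one]))) (c2.hRE.trans c2.hE.1)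
  have hRY : R ≤ cs H X := by
    haveI : Fact (Nat.card R).Prime := ⟨c1.hr.1⟩
    rw [← hHσM]
    exact le_inf (le_sc hG hU c1.hH hrH (c1.hRE.trans hEH)
      (IsPGroup.of_card (n := 1) (by rw [pow_one]))) (c1.hRE.trans c1.hE.1)
  have hnY : ¬ cs M R ≤ centralizer (P : Set G) := fun h =>
    hPX (Subgroup.le_centralizer_iff.1 (hXY.trans h))
  have hnY' : ¬ cs H X ≤ centralizer (P : Set G) := fun h =>
    hPR (Subgroup.le_centralizer_iff.1 (hRY.trans h))
  obtain ⟨hnD, -⟩ := h8a M H E R c1 P hPE hPτM hPR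
  obtain ⟨hnD', -⟩ := h8a H M E' X c2 P hPE' hPτH hPX
  have hD1 : cs M P ≠ ⊥ := fun h => hnD (by rw [h]; exact bot_le)
  have hD2 : cs H P ≠ ⊥ := fun h => hnD' (by rw [h]; exact bot_le)
  have hPM : P ≤ M := hPE.trans c1.hE.1
  have hPH : P ≤ H := hPE'.trans c2.hE.1
  have hκM : Nat.card P ∈ kappa M :=
    j_mem_kappa hG c1.hM hPM hp hPτM.2.1 hPτM.2.2.2.2 hD1
  have hκH : Nat.card P ∈ kappa H :=
    j_mem_kappa hG c1.hH hPH hp hPτH.2.1 hPτH.2.2.2.2 hD2
  have hP1 : P ≠ ⊥ := Cfsg.Agent.Lib.Helper72.BG139.ne_bot_of_prime_card hp rfl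
  have hPtop : P ≠ ⊤ :=
    MS_isPGroup_ne_top hG (p := Nat.card P) (IsPGroup.of_card (n := 1) (by rw [pow_one]))
  have hsolv : Group.IsSolvable (centralizer (P : Set G)) := by
    refine MS_solvable hG (fun h => MS_normalizer_ne_top hG hP1 hPtop ?_)
    exact eq_top_iff.2 (h ▸ Subgroup.centralizer_le_normalizer (P : Set G))
  have hcop : (Nat.card (cs M P)).Coprime (Nat.card (cs H P)) :=
    Nat.coprime_of_dvd fun k hk a b =>
      hσσ k (sc_primes M hk (a.trans (Subgroup.card_dvd_of_le inf_le_left)))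
        (sc_primes H hk (b.trans (Subgroup.card_dvd_of_le inf_le_left)))
  obtain ⟨c, hc, hh⟩ := gam (centralizer (P : Set G)) (cs M P) (cs H P) hsolv inf_le_right
    inf_le_right hD1 hD2 hcop (h8g M c1.hM P hPM hκM) (h8g H c1.hH P hPH hκH)
    (fun t T ht hT hle => h1 M c1.hM _ hp hPτM.2.1 hPτM.2.2.2.2 P hPM rfl t T ht hT hle)
    (fun t T ht hT hle => h1 H c1.hH _ hp hPτH.2.1 hPτH.2.2.2.2 P hPH rfl t T ht hT hle)
  rcases hh with ⟨T, hT, hTp, hN⟩ | ⟨T, hT, hTp, hN⟩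
  · exact o72_half hG h6 h8e c1 hPE hPτM hκM hnD hnY hD2 hc hT hTp hN
  · exact o72_half hG h6 h8e c2 hPE' hPτH hκH hnD' hnY' hD1 hc hT hTp hN

/-- **Piece [O]**, second part (Lemma R = BG 13.10). -/
theorem l872 (hG : IsMinSimpleOddOrder G) (h8b : L8b G) (h8c : L8c G) (h8f : L8f G) : L8 G := by
  intro M E R P hM hE hRE hr hY hPE hPτ
  haveI : Fact (Nat.card R).Prime := ⟨hr.1⟩
  have hR1 : R ≠ ⊥ := Cfsg.Agent.Lib.Helper72.BG139.ne_bot_of_prime_card hr.1 rfl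
  have hRtop : R ≠ ⊤ :=
    MS_isPGroup_ne_top hG (p := Nat.card R) (IsPGroup.of_card (n := 1) (by rw [pow_one]))
  obtain ⟨H, hH, hNH⟩ := exists_coatom_ge (MS_normalizer_ne_top hG hR1 hRtop)
  have c1 : T3Cfg M H E R := ⟨hM, hH, hE, hRE, hr, hY, hNH⟩
  by_contra hPR
  have hnY : ¬ cs M R ≤ centralizer (P : Set G) := fun h => hPR (h8b M H E R c1 P hPE hPτ h)
  obtain ⟨E', X, c2, hPE', hPτH, hPX⟩ := h8c M H E R c1 P hPE hPτ hnY
  exact h8f M H E R E' X P c1 c2 hPE hPE' hPτ hPτH hPR hPX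

end Cfsg.Agent.Lib.Helper87.BG14
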