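/-
Helper library (helper91, for helper87's BG14 farm): piece [P] = L9 (Case A of BG 14.2 = BG 13.11).
-/
import Cfsg.Agent.Lib.Helper87.BG14.J

set_option autoImplicit false
set_option linter.unusedSimpArgs false
set_option linter.unusedVariables false
set_option linter.style.haveILetI false
set_option linter.unusedSectionVars false

namespace Cfsg.Agent.Lib.Helper87.BG14

open Subgroup Cfsg
open Cfsg.Agent.Lib
open Cfsg.Agent.Lib.Helper24 Cfsg.Agent.Lib.Helper34 Cfsg.Agent.Lib.Helper31.BG11
open Cfsg.Agent.Lib.Helper34.BG13 Cfsg.Agent.Lib.Helper9.BG12 Cfsg.Agent.Lib.Helper91.BG13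
open scoped commutatorElement

universe u

variable {G : Type u} [Group G] [Finite G]

/-- A nontrivial `s`-group contains a subgroup of order `s`. -/
theorem p_exists_card_prime {s : ℕ} [hs : Fact s.Prime] {S : Subgroup G} (hS : IsPGroup s S)
    (hS1 : S ≠ ⊥) : ∃ W : Subgroup G, W ≤ S ∧ Nat.card W = s := by
  obtain ⟨w, hw⟩ := exists_prime_orderOf_dvd_card' (G := S) s (dvd_card_of_isPGroup_ne_bot' hS hS1)
  have hwo : orderOf (w : G) = s := by rw [Subgroup.orderOf_coe, hw]
  exact ⟨zpowers (w : G), zpowers_le.2 w.2, by rw [Nat.card_zpowers, hwo]⟩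

/-- A coprime group of automorphisms of a cyclic `s`-group that centralizes its subgroup of order `s`
is trivial. -/
theorem p_centralizes_cyclic {s : ℕ} [hs : Fact s.Prime] {S W P : Subgroup G} (hS : IsPGroup s S)
    (hSc : IsCyclic S) (hWS : W ≤ S) (hW : Nat.card W = s) (hPS : P ≤ normalizer (S : Set G))
    (hcop : ¬ s ∣ Nat.card P) (hPW : P ≤ centralizer (W : Set G)) :
    P ≤ centralizer (S : Set G) := by
  have hScomm : IsMulCommutative S := IsCyclic.isMulCommutative
  have h1 := Helper48.commutator_inf_centralizer_eq_bot hScomm hPS (by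
    intro v hv hvr
    obtain ⟨k, hk⟩ := hS ⟨v, hv⟩
    have hk' : v ^ s ^ k = 1 := congrArg Subtype.val hk
    exact Helper23.eq_one_of_pow_coprime
      (((Nat.Prime.coprime_iff_not_dvd hs.out).2 hcop).pow_left k) hk' hvr)
  have hle : ⁅S, P⁆ ≤ S := Subgroup.le_normalizer_iff_commutator_le_left.1 hPS
  have h2 : ⁅S, P⁆ = ⊥ := by
    by_contra hne
    obtain ⟨W', hW'S, hW'⟩ := p_exists_card_prime (hS.to_le hle) hne
    have heq : W' = W :=
      Helper2.eq_of_card_prime_of_le_cyclic S hSc hS _ _ (hW'S.trans hle) hWS hW' hW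
    have h3 : W ≤ ⁅S, P⁆ ⊓ centralizer (P : Set G) :=
      le_inf (heq ▸ hW'S) (j_le_centralizer_symm hPW)
    rw [h1, le_bot_iff] at h3
    rw [h3, card_bot] at hW
    exact hs.out.one_lt.ne hW
  exact j_le_centralizer_symm (Subgroup.commutator_eq_bot_iff_le_centralizer.1 h2)

/-- **L9** (Case A of BG 14.2). -/
theorem l9 (hG : IsMinSimpleOddOrder G) (h7 : L7 G) (h8 : L8 G) (h8c : L8c G) : L9 G := by
  intro M E R hM hE hRE hr hY
  have hU := ut hG
  haveI : Fact (Nat.card R).Prime := ⟨hr.1⟩
  have hRpg : IsPGroup (Nat.card R) R := IsPGroup.of_card (n := 1) (by rw [pow_one])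
  obtain ⟨H, hH, hNH⟩ := exists_coatom_ge
    (MS_normalizer_ne_top hG (j_ne_bot_of_card_prime hr.1) (MS_isPGroup_ne_top hG hRpg))
  have c : T3Cfg M H E R := ⟨hM, hH, hE, hRE, hr, hY, hNH⟩
  obtain ⟨-, -, -, -, -, hτ2, -, -, hR'⟩ := h7 M H E R c
  have hsolvE : Group.IsSolvable E := MS_solvable hG (ne_top_of_le_ne_top hM.1 hE.1)
  -- `C_{M_σ}(X) = Y` for every subgroup `X` of prime order of `E`
  have hX : ∀ X : Subgroup G, X ≤ E → (Nat.card X).Prime → cs M X = cs M R := by
    intro X hXE hXp
    rcases q_type hG hM hE hXp (card_dvd_of_le hXE) with h | h | h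
    · apply le_antisymm
      · have hXR := h8 M E R X hM hE hRE hr hY hXE h
        exact Cfsg.Agent.S1428.result hG M hM E hE _ h X hXE rfl R
          (le_inf hRE (j_le_centralizer_symm hXR)) hr.1
      · refine le_inf inf_le_left ?_
        by_contra hcon
        obtain ⟨E', X', c', hXE', hXτ, hXX'⟩ := h8c M H E R c X hXE h hcon
        exact hXX' (h8 H E' X' X hH c'.hE c'.hRE c'.hr c'.hY hXE' hXτ)
    · rw [hτ2] at h
      exact absurd h (Set.notMem_empty _)
    · exact hR' X hXE h
  -- Sylow subgroups of `E`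
  have hsyl : ∀ s : ℕ, s.Prime → s ∣ Nat.card E → ∀ S : Subgroup G, IsSylowIn s S E →
      IsCyclic S ∧ S ≠ ⊥ := by
    intro s hs hsE S hS
    haveI : Fact s.Prime := ⟨hs⟩
    refine ⟨?_, sylow_ne_bot_of_dvd hS hsE⟩
    have h1 : PRankLE s 1 M := by
      rcases q_type hG hM hE hs hsE with h | h | h
      · exact h.2.2.2.2
      · rw [hτ2] at h
        exact absurd h (Set.notMem_empty _)
      · exact h.2.2.2
    exact isCyclic_of_pRankLE_one (MS_prime_ne_two hG hsE) hS.2.1 (pRankLE_mono (hS.1.trans hE.1) h1)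
  -- `E` centralizes `Y`
  have hEY : E ≤ centralizer ((cs M R : Subgroup G) : Set G) := by
    have key := eq_of_forall_not_dvd_relIndex
      (K := E ⊓ centralizer ((cs M R : Subgroup G) : Set G)) (D := E) inf_le_left (by
        intro s hs
        haveI : Fact s.Prime := ⟨hs⟩
        by_cases hsE : s ∣ Nat.card E
        · obtain ⟨S, hS, -⟩ := exists_isSylowIn_ge (bot_le : (⊥ : Subgroup G) ≤ E)
            (IsPGroup.of_bot (p := s))
          obtain ⟨hSc, hS1⟩ := hsyl s hs hsE S hS
          obtain ⟨W, hWS, hW⟩ := p_exists_card_prime hS.2.1 hS1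
          have h6 := j_cs_sylow hG hM hE hS hSc hWS (j_ne_bot_of_card_prime (by rw [hW]; exact hs))
          rw [hX W (hWS.trans hS.1) (by rw [hW]; exact hs)] at h6
          exact j_not_dvd_relIndex_of_le (le_inf hS.1 (j_le_centralizer_symm h6)) inf_le_left
            hS.2.2
        · intro hd
          exact hsE (hd.trans (Subgroup.relIndex_dvd_card _ _)))
    rw [← key]
    exact inf_le_right
  have hYE : cs M E = cs M R := le_antisymm
    (inf_le_inf_left _ (centralizer_le (by exact_mod_cast hRE)))
    (le_inf inf_le_left (j_le_centralizer_symm hEY))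
  -- the Hall `τ₃`-subgroup
  obtain ⟨E₃, hE₃⟩ := Helper62.exists_isPiHallOf (tau3 M) E hsolvE
  obtain ⟨hE₃c, -, hE₃n⟩ := (Cfsg.Agent.S1415.result hG M hM E hE).2.2 E₃ hE₃
  have hτ3n : ∀ (s : ℕ) (S : Subgroup G), s ∈ tau3 M → IsPGroup s S → S ≤ E →
      E ≤ normalizer (S : Set G) := by
    intro s S hs hS hSE
    haveI : Fact s.Prime := ⟨hs.1⟩
    exact hE₃n.trans (normalizer_le_normalizer_of_isCyclic hE₃c
      (le_of_normal_of_not_dvd hE₃.1 hE₃n (hE₃.2.2 s hs.1 hs) hSE hS))
  refine ⟨hτ2, ?_, by rw [hYE]; exact hY, ?_⟩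
  · intro e he he1
    apply le_antisymm
    · obtain ⟨n, hn⟩ := q_exists_prime_pow he1
      rw [hYE, ← hX (zpowers (e ^ n)) (zpowers_le.2 (pow_mem he n))
        (by rw [Nat.card_zpowers]; exact hn)]
      refine inf_le_inf_left _ ?_
      rw [centralizer_zpowers_eq]
      intro y hy
      rw [mem_centralizer_singleton_iff] at hy ⊢
      exact ((Commute.pow_right (show Commute y e from hy) n)).eq
    · exact inf_le_inf_left _ (centralizer_le (by simpa using he))
  · intro X hXE hXp
    haveI : Fact (Nat.card X).Prime := ⟨hXp⟩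
    have hXpg : IsPGroup (Nat.card X) X := IsPGroup.of_card (n := 1) (by rw [pow_one])
    rcases q_type hG hM hE hXp (card_dvd_of_le hXE) with h | h | h
    · -- `τ₁`: `X` is central in `E`
      have key := eq_of_forall_not_dvd_relIndex
        (K := E ⊓ centralizer (X : Set G)) (D := E) inf_le_left (by
          intro s hs
          haveI : Fact s.Prime := ⟨hs⟩
          by_cases hsE : s ∣ Nat.card E
          · rcases q_type hG hM hE hs hsE with h' | h' | h'
            · obtain ⟨E₁, hE₁, hXE₁⟩ := j_hall_ge (π := tau1 M) hsolvE hXE (by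
                intro t ht hd
                rwa [(Nat.prime_dvd_prime_iff_eq ht hXp).1 hd])
              have hE₁c := (Cfsg.Agent.S1415.result hG M hM E hE).2.1 E₁ hE₁
              exact j_not_dvd_relIndex_of_le (le_inf hE₁.1
                (le_centralizer_of_comm IsCyclic.isMulCommutative hXE₁)) inf_le_left
                (hE₁.2.2 s hs h')
            · rw [hτ2] at h'
              exact absurd h' (Set.notMem_empty _)
            · obtain ⟨S, hS, -⟩ := exists_isSylowIn_ge (bot_le : (⊥ : Subgroup G) ≤ E)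
                (IsPGroup.of_bot (p := s))
              obtain ⟨hSc, hS1⟩ := hsyl s hs hsE S hS
              obtain ⟨W, hWS, hW⟩ := p_exists_card_prime hS.2.1 hS1
              have hWτ : Nat.card W ∈ tau3 M := by rw [hW]; exact h'
              have hXW := h8 M E W X hM hE (hWS.trans hS.1) hWτ
                (by rw [hX W (hWS.trans hS.1) hWτ.1]; exact hY) hXE h
              have hsX : ¬ s ∣ Nat.card X := by
                intro hd
                have := (Nat.prime_dvd_prime_iff_eq hs hXp).1 hd
                rw [← this] at h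
                exact h.2.2.2.1 h'.2.2.1
              have h9 := p_centralizes_cyclic hS.2.1 hSc hWS hW
                (hXE.trans (hτ3n s S h' hS.2.1 hS.1)) hsX hXW
              exact j_not_dvd_relIndex_of_le (le_inf hS.1 (j_le_centralizer_symm h9)) inf_le_left
                hS.2.2
          · intro hd
            exact hsE (hd.trans (Subgroup.relIndex_dvd_card _ _)))
      rw [← key]
      exact inf_le_right.trans (centralizer_le_normalizer _)
    · rw [hτ2] at h
      exact absurd h (Set.notMem_empty _)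
    · exact hτ3n _ X h hXpg hXE

end Cfsg.Agent.Lib.Helper87.BG14
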