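/-
Piece [S30] of helper87's BG14 farm (written by helper72): the statement of S1430 (BG 14.2(a),(b))
from `L5`, `L9`, `L10`, `L135`.
-/
import Cfsg.Agent.Lib.Helper87.BG14.Defs
import Cfsg.Agent.Lib.Helper87.BG14.LV
import Cfsg.Agent.Lib.Helper34.BGRows
import Cfsg.Agent.Lib.Helper34.BG16a
import Cfsg.Agent.S1415

set_option autoImplicit false
set_option linter.unusedSimpArgs false
set_option linter.unusedVariables false
set_option linter.style.haveILetI false
set_option linter.unusedSectionVars false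

namespace Cfsg.Agent.Lib.Helper87.BG14

open Subgroup Cfsg
open Cfsg.Agent.Lib.Helper34 Cfsg.Agent.Lib.Helper24 Cfsg.Agent.Lib.Helper31.BG11
open Cfsg.Agent.Lib.Helper34.BG13 Cfsg.Agent.Lib.Helper72.BG139

universe u

variable {G : Type u} [Group G]

/-- `N_M(D) = N_E(D) C_{M_σ}(D)` for a subgroup `D` of a complement `E` of `M_σ`. -/
theorem s30_split [Finite G] {M E D : Subgroup G} (hE : IsComplIn E (sigmaCore M) M) (hDE : D ≤ E)
    {m : G} (hm : m ∈ M) (hmD : m ∈ normalizer (D : Set G)) :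
    ∃ e ∈ E ⊓ normalizer (D : Set G), ∃ v ∈ sigmaCore M ⊓ centralizer (D : Set G), m = e * v := by
  obtain ⟨e, he, v, hv, rfl⟩ := hE.2.2.2 m hm
  have hn : ∀ x ∈ M, ∀ y ∈ sigmaCore M, x * y * x⁻¹ ∈ sigmaCore M :=
    fun x hx y hy => le_normalizer_iff.mp (sc_norm M) x hx y hy
  have hbot : ∀ w, w ∈ E → w ∈ sigmaCore M → w = 1 := by
    intro w h1 h2
    have : w ∈ E ⊓ sigmaCore M := ⟨h1, h2⟩
    rw [hE.2.2.1] at this
    exact Subgroup.mem_bot.1 this
  have key : ∀ d ∈ D, e * d * e⁻¹ ∈ D := by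
    intro d hd
    have hd' : (e * v) * d * (e * v)⁻¹ ∈ D := (mem_normalizer_iff.1 hmD d).1 hd
    have hdM : d ∈ M := hE.1 (hDE hd)
    have hw1 : ((e * v) * d * (e * v)⁻¹)⁻¹ * (e * d * e⁻¹) ∈ E :=
      E.mul_mem (E.inv_mem (hDE hd')) (E.mul_mem (E.mul_mem he (hDE hd)) (E.inv_mem he))
    have hw2 : ((e * v) * d * (e * v)⁻¹)⁻¹ * (e * d * e⁻¹) ∈ sigmaCore M := by
      have e1 : ((e * v) * d * (e * v)⁻¹)⁻¹ * (e * d * e⁻¹)
          = e * (v * (d⁻¹ * v⁻¹ * d⁻¹⁻¹)) * e⁻¹ := by group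
      rw [e1]
      exact hn e (hE.1 he) _ ((sigmaCore M).mul_mem hv
        (hn d⁻¹ (M.inv_mem hdM) _ ((sigmaCore M).inv_mem hv)))
    have h1 := hbot _ hw1 hw2
    have h2 : e * d * e⁻¹ = (e * v) * d * (e * v)⁻¹ := by
      rw [inv_mul_eq_one] at h1
      exact h1.symm
    rw [h2]
    exact hd'
  have heN : e ∈ normalizer (D : Set G) := by
    have h1 : cj e D ≤ D := by
      rintro _ ⟨d, hd, rfl⟩
      exact key d hd
    have h2 : cj e D = D := Subgroup.eq_of_le_of_card_ge h1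
      (by rw [show Nat.card (cj e D) = Nat.card D from card_map_conj e D])
    exact mem_normalizer_of_map_conj_eq h2
  have hvN : v ∈ normalizer (D : Set G) := by
    have : v = e⁻¹ * (e * v) := by group
    rw [this]
    exact (normalizer (D : Set G)).mul_mem ((normalizer (D : Set G)).inv_mem heN) hmD
  refine ⟨e, ⟨he, heN⟩, v, Subgroup.mem_inf.2 ⟨hv, ?_⟩, rfl⟩
  rw [Subgroup.mem_centralizer_iff]
  intro d hd
  have hdM : d ∈ M := hE.1 (hDE hd)
  have h1 : v * d * v⁻¹ * d⁻¹ ∈ E :=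
    hDE (D.mul_mem ((mem_normalizer_iff.1 hvN d).1 hd) (D.inv_mem hd))
  have h2 : v * d * v⁻¹ * d⁻¹ ∈ sigmaCore M := by
    have e1 : v * d * v⁻¹ * d⁻¹ = v * (d * v⁻¹ * d⁻¹) := by group
    rw [e1]
    exact (sigmaCore M).mul_mem hv (hn d hdM _ ((sigmaCore M).inv_mem hv))
  have h3 := hbot _ h1 h2
  calc d * v = (v * d * v⁻¹ * d⁻¹)⁻¹ * (v * d) := by group
    _ = v * d := by rw [h3, inv_one, one_mul]

/-- `N_M(D) = K K*`. -/
theorem s30_norm [Finite G] {M E K D : Subgroup G} (hE : IsComplIn E (sigmaCore M) M) (hKE : K ≤ E)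
    (hprime : ∀ k ∈ K, k ≠ 1 → sigmaCore M ⊓ centralizer ({k} : Set G) = cs M K)
    (hDK : D ≤ K) (hD1 : D ≠ ⊥) (hKD : K ≤ normalizer (D : Set G))
    (hEND : E ⊓ normalizer (D : Set G) ≤ K) :
    M ⊓ normalizer (D : Set G) = K ⊔ cs M K := by
  apply le_antisymm
  · rintro m ⟨hm, hmD⟩
    obtain ⟨e, he, v, hv, rfl⟩ := s30_split hE (hDK.trans hKE) hm hmD
    obtain ⟨d, hd, hd1⟩ : ∃ d ∈ D, d ≠ 1 := by
      by_contra hcon
      push Not at hcon
      exact hD1 ((Subgroup.eq_bot_iff_forall D).2 hcon)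
    refine Subgroup.mul_mem _ (Subgroup.mem_sup_left (hEND he)) (Subgroup.mem_sup_right ?_)
    rw [← hprime d (hDK hd) hd1]
    exact ⟨hv.1, Subgroup.centralizer_le (by simpa using hd) hv.2⟩
  · refine sup_le (le_inf (hKE.trans hE.1) hKD) (le_inf (inf_le_left.trans (sc_le M)) ?_)
    exact inf_le_right.trans ((Subgroup.centralizer_le (SetLike.coe_subset_coe.2 hDK)).trans
      (Subgroup.centralizer_le_normalizer (D : Set G)))

/-- The last clause of S1430, from `L5`. -/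
theorem s30_last [Finite G] (hG : IsMinSimpleOddOrder G) (h5 : L5 G) {M K X : Subgroup G}
    (hM : IsCoatom M) (hK : IsPiHallOf (kappa M) K M) (hXK : X ≤ K) (hXp : (Nat.card X).Prime) :
    ∀ Mstar : Subgroup G, IsCoatom Mstar → normalizer (X : Set G) ≤ Mstar →
      X ≤ sigmaCore Mstar := by
  intro Ms hMs hN
  haveI : Fact (Nat.card X).Prime := ⟨hXp⟩
  have hκ : Nat.card X ∈ kappa M := hK.2.1 _ hXp (Subgroup.card_dvd_of_le hXK)
  have hσ := h5 M hM X (hXK.trans hK.1) hκ Ms hMs hN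
  exact le_sc hG (ut hG) hMs hσ (Subgroup.le_normalizer.trans hN)
    (IsPGroup.of_card (n := 1) (by rw [pow_one]))

/-- **Piece [S30]**: the statement of S1430. -/
theorem s1430 [Finite G] (hG : IsMinSimpleOddOrder G) (h5 : L5 G) (h9 : L9 G) (h10 : L10 G)
    (h135 : L135 G) : Cfsg.Agent.Lib.Helper34.BGRows.H1430 G := by
  intro M hM K hK hK1
  have hKσ : ∀ r : ℕ, r.Prime → r ∣ Nat.card K → r ∉ sigma M :=
    fun r hr hd => (hK.2.1 r hr hd).2.2.1
  obtain ⟨E, hE, hKE⟩ := exists_compl_ge hG (ut hG) hM hK.1 hKσ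
  have hrelKE : K.relIndex E ∣ K.relIndex M := by
    rw [← Subgroup.relIndex_mul_relIndex K E M hKE hE.1]
    exact Dvd.intro _ rfl
  have hXne : ∀ X : Subgroup G, (Nat.card X).Prime → X ≠ ⊥ := fun X hX =>
    ne_bot_of_prime_card hX rfl
  by_cases hA : ∃ r ∈ tau3 M, r ∈ kappa M
  · -- Case 1: `K = E`
    obtain ⟨r, hr3, hrκ⟩ := hA
    obtain ⟨R, hRE, hRc, hR1⟩ := lv_exists_kappa_sub hE hrκ
    obtain ⟨hτ2, hpr, hne, hnorm⟩ := h9 M E R hM hE hRE (by rw [hRc]; exact hr3) hR1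
    obtain ⟨y, hy, hy1⟩ : ∃ y ∈ cs M E, y ≠ 1 := by
      by_contra hcon
      push Not at hcon
      exact hne ((Subgroup.eq_bot_iff_forall _).2 hcon)
    have hEκ : ∀ s : ℕ, s.Prime → s ∣ Nat.card E → s ∈ kappa M := by
      intro s hs hd
      haveI : Fact s.Prime := ⟨hs⟩
      have hsσ := compl_not_sigma hG (ut hG) hM hE hs hd
      have hrk : PRankLE s 1 M := by
        rcases Cfsg.Agent.Lib.Helper34.BG16.tau2_or_rank_one hG (ut hG) hM hs hsσ with h | h
        · rw [hτ2] at h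
          exact absurd h (Set.notMem_empty s)
        · exact h
      obtain ⟨w, hw⟩ := exists_prime_orderOf_dvd_card' s hd
      refine Cfsg.Agent.Lib.Helper34.BG16.mem_kappa_of hG hM hs hsσ hrk (w := (w : G)) (y := y)
        (hE.1 w.2) (by rw [Subgroup.orderOf_coe, hw]) hy.1 hy1 ?_
      exact (Subgroup.mem_centralizer_iff.1 hy.2 (w : G) w.2)
    have hKeq : K = E := by
      refine eq_of_forall_not_dvd_relIndex hKE (fun q hq hd => ?_)
      exact hK.2.2 q hq (hEκ q hq (hd.trans (Subgroup.relIndex_dvd_card K E))) (hd.trans hrelKE)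
    subst hKeq
    refine ⟨hpr, ⟨⊥, inferInstance, ⟨bot_le, ?_, ?_⟩, ?_, ?_⟩, ?_⟩
    · intro q hq hd
      rw [Subgroup.card_bot] at hd
      exact absurd (Nat.dvd_one.1 hd) hq.one_lt.ne'
    · intro q hq hqm hd
      rw [Subgroup.relIndex_bot_left, ← Cfsg.Agent.Lib.Helper23.complIn_card_mul hE] at hd
      rcases (Nat.Prime.dvd_mul hq).1 hd with h | h
      · exact hqm.2.1 (hEκ q hq h)
      · exact hqm.2.2 (sc_primes M hq h)
    · intro k _
      rw [mem_normalizer_iff]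
      intro z
      simp [mem_bot]
    · intro k _ _
      exact bot_inf_eq _
    · intro X hXK hXp
      exact ⟨s30_norm hE le_rfl hpr hXK (hXne X hXp) (hnorm X hXK hXp) inf_le_left,
        s30_norm hE le_rfl hpr le_rfl hK1 Subgroup.le_normalizer inf_le_left,
        s30_last hG h5 hM hK hXK hXp⟩
  · -- Case 2
    push Not at hA
    obtain ⟨P, p, hp, hPc, hpK, hPK⟩ := exists_prime_card_le hK1
    have hne : (kappa M).Nonempty := ⟨p, hK.2.1 p hp hpK⟩
    have hEs : Group.IsSolvable E := MS_solvable hG (ne_top_of_le_ne_top hM.1 hE.1)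
    obtain ⟨K1, hK1h⟩ := Cfsg.Agent.Lib.Helper62.exists_isPiHallOf (tau1 M) E hEs
    have hκτ : kappa M = tau1 M := (h10 M E K1 hM hE hK1h hne hA).1
    have hKτ : IsPiHallOf (tau1 M) K E :=
      ⟨hKE, fun q hq hd => hκτ ▸ hK.2.1 q hq hd,
        fun q hq hqτ hd => hK.2.2 q hq (hκτ ▸ hqτ) (hd.trans hrelKE)⟩
    obtain ⟨-, -, U, hUle, hEU, hUc, hUh, hUreg⟩ := h10 M E K hM hE hKτ hne hA
    have hpr := h135 M E K hM hE hKτ
    haveI hKcyc : IsCyclic K := (Cfsg.Agent.S1415.result hG M hM E hE).2.1 K hKτ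
    have hKcomm : K ≤ centralizer (K : Set G) := by
      intro a ha
      rw [Subgroup.mem_centralizer_iff]
      intro b hb
      exact congrArg Subtype.val (IsCyclic.commGroup.mul_comm (⟨b, hb⟩ : K) ⟨a, ha⟩)
    have hcard := Cfsg.Agent.Lib.Helper58.BG139.card_mul_of_hall hKτ hUh
    have hcop : (Nat.card K).Coprime (Nat.card U) :=
      Nat.coprime_of_dvd fun k hk h1 h2 => (hUh.2.1 k hk h2).2 (hKτ.2.1 k hk h1)
    have hKU : K ⊓ U = ⊥ := (Subgroup.disjoint_of_coprime_natCard hcop).eq_bot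
    have hsup : U ⊔ K = E := by
      refine Subgroup.eq_of_le_of_card_ge (sup_le hUh.1 hKE) (Nat.le_of_dvd Nat.card_pos ?_)
      rw [← hcard]
      exact Nat.Coprime.mul_dvd_of_dvd_of_dvd hcop (Subgroup.card_dvd_of_le le_sup_right)
        (Subgroup.card_dvd_of_le le_sup_left)
    have hEND : ∀ D : Subgroup G, D ≤ K → D ≠ ⊥ → K ≤ normalizer (D : Set G) →
        E ⊓ normalizer (D : Set G) ≤ K := by
      rintro D hDK hD1 hKD e ⟨he, heD⟩
      rw [SetLike.mem_coe, ← hsup] at he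
      obtain ⟨v, hv, k, hk, rfl⟩ :=
        (Cfsg.Agent.Lib.Helper22.mem_sup_of_le_normalizer (hKE.trans hEU)).1 he
      obtain ⟨d, hd, hd1⟩ : ∃ d ∈ D, d ≠ 1 := by
        by_contra hcon
        push Not at hcon
        exact hD1 ((Subgroup.eq_bot_iff_forall D).2 hcon)
      have hvN : v ∈ normalizer (D : Set G) := by
        have : v = (v * k) * k⁻¹ := by group
        rw [this]
        exact (normalizer (D : Set G)).mul_mem heD ((normalizer (D : Set G)).inv_mem (hKD hk))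
      have h1 : v * d * v⁻¹ * d⁻¹ ∈ K :=
        hDK (D.mul_mem ((mem_normalizer_iff.1 hvN d).1 hd) (D.inv_mem hd))
      have h2 : v * d * v⁻¹ * d⁻¹ ∈ U := by
        have e1 : v * d * v⁻¹ * d⁻¹ = v * (d * v⁻¹ * d⁻¹) := by group
        rw [e1]
        exact U.mul_mem hv ((mem_normalizer_iff.1 (hEU (hKE (hDK hd))) v⁻¹).1 (U.inv_mem hv))
      have h3 : v * d * v⁻¹ * d⁻¹ = 1 := by
        have : v * d * v⁻¹ * d⁻¹ ∈ K ⊓ U := ⟨h1, h2⟩
        rw [hKU] at this
        exact Subgroup.mem_bot.1 this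
      have h4 : v ∈ U ⊓ centralizer ({d} : Set G) := by
        refine Subgroup.mem_inf.2 ⟨hv, ?_⟩
        rw [Subgroup.mem_centralizer_iff]
        intro z hz
        rw [Set.mem_singleton_iff] at hz
        subst hz
        calc z * v = (v * z * v⁻¹ * z⁻¹)⁻¹ * (v * z) := by group
          _ = v * z := by rw [h3, inv_one, one_mul]
      rw [hUreg d (hDK hd) hd1] at h4
      rw [Subgroup.mem_bot.1 h4, one_mul]
      exact hk
    have hKN : ∀ D : Subgroup G, D ≤ K → K ≤ normalizer (D : Set G) := fun D hDK =>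
      (hKcomm.trans (Subgroup.centralizer_le (SetLike.coe_subset_coe.2 hDK))).trans
        (Subgroup.centralizer_le_normalizer (D : Set G))
    refine ⟨hpr, ⟨U, hUc, ⟨hUh.1.trans hE.1, ?_, ?_⟩, hKE.trans hEU, hUreg⟩, ?_⟩
    · intro q hq hd
      exact ⟨hq, hκτ ▸ (hUh.2.1 q hq hd).2,
        compl_not_sigma hG (ut hG) hM hE hq (hd.trans (Subgroup.card_dvd_of_le hUh.1))⟩
    · intro q hq hqm hd
      rw [← Subgroup.relIndex_mul_relIndex U E M hUh.1 hE.1,
        Cfsg.Agent.Lib.Helper23.complIn_relIndex_left hE] at hd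
      rcases (Nat.Prime.dvd_mul hq).1 hd with h | h
      · exact hUh.2.2 q hq ⟨hq, hκτ ▸ hqm.2.1⟩ h
      · exact hqm.2.2 (sc_primes M hq h)
    · intro X hXK hXp
      exact ⟨s30_norm hE hKE hpr hXK (hXne X hXp) (hKN X hXK) (hEND X hXK (hXne X hXp) (hKN X hXK)),
        s30_norm hE hKE hpr le_rfl hK1 Subgroup.le_normalizer (hEND K le_rfl hK1 Subgroup.le_normalizer),
        s30_last hG h5 hM hK hXK hXp⟩

end Cfsg.Agent.Lib.Helper87.BG14
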