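/-
Piece [S31] of helper87's BG14 farm (written by helper72): the statement of S1431 (BG 14.2(c)-(f))
from the statement of S1430, Lemma V and `L5`.
-/
import Cfsg.Agent.Lib.Helper87.BG14.Defs
import Cfsg.Agent.Lib.Helper87.BG14.L8g
import Cfsg.Agent.Lib.Helper34.BGRows
import Cfsg.Agent.S1423
import Cfsg.Agent.S1404
import Cfsg.Agent.S1425

set_option autoImplicit false
set_option linter.unusedSimpArgs false
set_option linter.unusedVariables false
set_option linter.style.haveILetI false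
set_option linter.unusedSectionVars false

namespace Cfsg.Agent.Lib.Helper87.BG14

open Subgroup Cfsg
open Cfsg.Agent.Lib.Helper34 Cfsg.Agent.Lib.Helper24 Cfsg.Agent.Lib.Helper31.BG11
open Cfsg.Agent.Lib.Helper34.BG13 Cfsg.Agent.Lib.Helper72.BG139

universe u

variable {G : Type u} [Group G]

/-- Two subgroups of order `p` of a group of `p`-rank one, one normalizing the other, are equal. -/
theorem s31_eq_of_rank_one [Finite G] {p : ℕ} [hp : Fact p.Prime] {M X X' : Subgroup G}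
    (hrk : PRankLE p 1 M) (hXM : X ≤ M) (hX'M : X' ≤ M) (hXc : Nat.card X = p)
    (hX'c : Nat.card X' = p) (hn : X' ≤ normalizer (X : Set G)) : X' = X := by
  have hD : IsPGroup p (X ⊔ X' : Subgroup G) := by
    have h1 : Nat.card (X ⊔ X' : Subgroup G) ∣ p ^ 2 := by
      have := Cfsg.Agent.Lib.Helper22.card_sup_dvd hn
      rwa [hXc, hX'c, ← sq] at this
    obtain ⟨k, -, hk⟩ := (Nat.dvd_prime_pow hp.out).1 h1
    exact IsPGroup.of_card hk
  have hom := mem_of_rank_one hD (pRankLE_mono (sup_le hXM hX'M) hrk) hXc le_sup_left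
  refine Subgroup.eq_of_le_of_card_ge ?_ (by rw [hXc, hX'c])
  intro x hx
  refine hom x ((le_sup_right : X' ≤ X ⊔ X') hx) ?_
  have h3 : (⟨x, hx⟩ : X') ^ Nat.card X' = 1 := pow_card_eq_one'
  rw [hX'c] at h3
  exact congrArg Subtype.val h3

/-- **Piece [S31]**: the statement of S1431. -/
theorem s1431 [Finite G] (hG : IsMinSimpleOddOrder G)
    (h30 : Cfsg.Agent.Lib.Helper34.BGRows.H1430 G) (hv : LV G) (h5 : L5 G) :
    Cfsg.Agent.Lib.Helper34.BGRows.H1431 G := by
  intro M hM K hK hK1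
  obtain ⟨-, -, h30c⟩ := h30 M hM K hK hK1
  -- subgroups of prime order of `K*`
  have hXσ : ∀ X : Subgroup G, X ≤ cs M K → (Nat.card X).Prime → Nat.card X ∈ sigma M :=
    fun X hX hXp => sc_primes M hXp (Subgroup.card_dvd_of_le (hX.trans inf_le_left))
  have h23 : ∀ X : Subgroup G, X ≤ cs M K → (hXp : (Nat.card X).Prime) →
      ∀ P : Sylow (Nat.card X) ↥(sigmaCore M),
      (centralizer (X : Set G) ≤ M ∧
        ∀ L : Subgroup G, IsCoatom L → centralizer (X : Set G) ≤ L → L = M) ∧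
      InUniqueMaximal ((P : Subgroup ↥(sigmaCore M)).map (sigmaCore M).subtype) ∧
      (P : Subgroup ↥(sigmaCore M)).map (sigmaCore M).subtype ≤ M := by
    intro X hX hXp P
    haveI : Fact (Nat.card X).Prime := ⟨hXp⟩
    exact Cfsg.Agent.S1423.result hG M hM _ (hXσ X hX hXp) X
      (hX.trans (inf_le_left.trans (sc_le M))) rfl P (hv M K hM hK hK1 X hX hXp)
  have hC : ∀ X : Subgroup G, X ≤ cs M K → (Nat.card X).Prime → centralizer (X : Set G) ≤ M := by
    intro X hX hXp
    haveI : Fact (Nat.card X).Prime := ⟨hXp⟩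
    exact (h23 X hX hXp default).1.1
  -- `X^g ≤ M` implies `g ∈ M`
  have hmem : ∀ X : Subgroup G, X ≤ cs M K → (Nat.card X).Prime → ∀ g : G, cj g X ≤ M → g ∈ M := by
    intro X hX hXp g hg
    haveI : Fact (Nat.card X).Prime := ⟨hXp⟩
    obtain ⟨m, hm, c, hc, rfl⟩ := (Cfsg.Agent.S1404.result hG M hM _ (hXσ X hX hXp) X
      (IsPGroup.of_card (n := 1) (by rw [pow_one])) (ne_bot_of_prime_card hXp rfl)
      (hX.trans (inf_le_left.trans (sc_le M)))).1 g hg
    exact M.mul_mem hm (hC X hX hXp hc)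
  refine ⟨?_, ?_, ?_, ?_⟩
  · -- (1)
    intro g hg
    by_contra hne
    obtain ⟨X, q, hq, hXc, -, hXle⟩ := exists_prime_card_le hne
    apply hg
    have h1 : cj g⁻¹ X ≤ M := by
      have h2 := cj_mono g⁻¹ (hXle.trans inf_le_right)
      rwa [cj_inv_cj] at h2
    have h3 := hmem X (hXle.trans inf_le_left) (by rw [hXc]; exact hq) g⁻¹ h1
    simpa using M.inv_mem h3
  · -- (2)
    intro g hg hgZ
    by_contra hne
    obtain ⟨X, p, hp, hXc, hpd, hXle⟩ := exists_prime_card_le hne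
    haveI : Fact p.Prime := ⟨hp⟩
    apply hgZ
    have hXK : X ≤ K := hXle.trans inf_le_left
    have hX'K : cj g⁻¹ X ≤ K := by
      have h2 := cj_mono g⁻¹ (hXle.trans inf_le_right)
      rwa [cj_inv_cj] at h2
    have hpκ : p ∈ kappa M := hK.2.1 p hp (hXc ▸ Subgroup.card_dvd_of_le hXK)
    have hN := (h30c X hXK (by rw [hXc]; exact hp)).1
    have hKN : K ≤ normalizer (X : Set G) := by
      have : K ≤ M ⊓ normalizer (X : Set G) := by rw [hN]; exact le_sup_left
      exact this.trans inf_le_right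
    have heq : cj g⁻¹ X = X := s31_eq_of_rank_one (l8g_kappa_rank hpκ) (hXK.trans hK.1)
      (hX'K.trans hK.1) hXc ((card_map_conj _ _).trans hXc) (hX'K.trans hKN)
    have h1 : g⁻¹ ∈ M ⊓ normalizer (X : Set G) :=
      ⟨M.inv_mem hg, mem_normalizer_of_map_conj_eq heq⟩
    rw [hN] at h1
    simpa using (K ⊔ (sigmaCore M ⊓ centralizer (K : Set G))).inv_mem h1
  · -- (3)
    intro p hp hpd S
    haveI : Fact p.Prime := ⟨hp⟩
    obtain ⟨x, hx⟩ := exists_prime_orderOf_dvd_card' p hpd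
    have hXc : Nat.card (zpowers (x : G)) = p := by
      rw [Nat.card_zpowers, Subgroup.orderOf_coe, hx]
    have hXle : zpowers (x : G) ≤ cs M K := (Subgroup.zpowers_le).2 x.2
    subst hXc
    obtain ⟨-, hU, hSM⟩ := h23 _ hXle hp S
    refine ⟨hU, hSM, ?_⟩
    intro hSK
    obtain ⟨X0, p0, hp0, hX0c, hp0d, hX0K⟩ := exists_prime_card_le hK1
    haveI : Fact p0.Prime := ⟨hp0⟩
    have hX01 : X0 ≠ ⊥ := ne_bot_of_prime_card hp0 hX0c
    have hX0top : X0 ≠ ⊤ :=
      MS_isPGroup_ne_top hG (p := p0) (IsPGroup.of_card (n := 1) (by rw [hX0c, pow_one]))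
    obtain ⟨Ms, hMs, hNMs⟩ := exists_coatom_ge (MS_normalizer_ne_top hG hX01 hX0top)
    have h1 : (S : Subgroup ↥(sigmaCore M)).map (sigmaCore M).subtype ≤ Ms :=
      hSK.trans (inf_le_right.trans ((Subgroup.centralizer_le (SetLike.coe_subset_coe.2 hX0K)).trans
        ((Subgroup.centralizer_le_normalizer (X0 : Set G)).trans hNMs)))
    have h2 : Ms = M := eq_of_inUniqueMaximal hU hM hSM hMs h1
    have h3 := (h30c X0 hX0K (by rw [hX0c]; exact hp0)).2.2 Ms hMs hNMs
    rw [h2] at h3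
    exact (hK.2.1 p0 hp0 hp0d).2.2.1 (sc_primes M hp0 (hX0c ▸ Subgroup.card_dvd_of_le h3))
  · -- (4)
    intro Y hY hYK
    have hY1 : Y ≠ ⊥ := fun h => hYK (by rw [h]; exact bot_inf_eq _)
    obtain ⟨g, hg⟩ := Cfsg.Agent.S1425.result hG M hM Y hY1 hY
    obtain ⟨X, q, hq, hXc, -, hXle⟩ := exists_prime_card_le hYK
    have hgM : g ∈ M := hmem X (hXle.trans inf_le_right) (by rw [hXc]; exact hq) g
      ((cj_mono g (hXle.trans inf_le_left)).trans (hg.trans (sc_le M)))
    have h1 := cj_mono g⁻¹ hg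
    rw [cj_inv_cj] at h1
    rwa [show cj g⁻¹ (sigmaCore M) = sigmaCore M from
      map_conj_eq_self_of_mem_normalizer (sc_norm M (M.inv_mem hgM))] at h1

end Cfsg.Agent.Lib.Helper87.BG14
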