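/-
BG14 farm (helper87): the chain of all pieces (written by helper72).
-/
import Cfsg.Agent.Lib.Helper87.BG14.A
import Cfsg.Agent.Lib.Helper87.BG14.B
import Cfsg.Agent.Lib.Helper87.BG14.C
import Cfsg.Agent.Lib.Helper87.BG14.D
import Cfsg.Agent.Lib.Helper87.BG14.E
import Cfsg.Agent.Lib.Helper87.BG14.F
import Cfsg.Agent.Lib.Helper87.BG14.G
import Cfsg.Agent.Lib.Helper87.BG14.H
import Cfsg.Agent.Lib.Helper87.BG14.J
import Cfsg.Agent.Lib.Helper87.BG14.K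
import Cfsg.Agent.Lib.Helper87.BG14.L8a
import Cfsg.Agent.Lib.Helper87.BG14.L8e
import Cfsg.Agent.Lib.Helper87.BG14.L8g
import Cfsg.Agent.Lib.Helper87.BG14.O72
import Cfsg.Agent.Lib.Helper87.BG14.P
import Cfsg.Agent.Lib.Helper87.BG14.Q
import Cfsg.Agent.Lib.Helper87.BG14.LV
import Cfsg.Agent.Lib.Helper87.BG14.S30
import Cfsg.Agent.Lib.Helper87.BG14.S31

set_option autoImplicit false

namespace Cfsg.Agent.Lib.Helper87.BG14

open Cfsg

universe u

variable {G : Type u} [Group G] [Finite G]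

/-- All the lemmas of the farm. -/
theorem all72 (hG : IsMinSimpleOddOrder G) :
    L135 G ∧ C3 G ∧ L1 G ∧ L2 G ∧ L3 G ∧ L4 G ∧ L5 G ∧ L6 G ∧ L7 G ∧ L8 G ∧ L9 G ∧ L10 G ∧ LV G := by
  have h135 := l135 hG
  have hc3 := c3 hG
  have h1 := l1 hG
  have h2 := l2 hG h1
  have h3 := l3 hG h2 h135
  have h4 := l4 hG h3
  have h5 := l5 hG h4
  have h6 := l6 hG h5
  have h7 := l7 hG h5 h6
  have h8a := l8a hG h5 h6 h7
  have h8b := l8b hG h135 hc3 h6 h7 h8a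
  have h8c := l8c hG h1 h6 h7
  have h8e := l8e hG h7
  have h8g := l8g hG h1 h6
  have h8f := l8f72 hG h1 h6 h7 h8a h8e h8g
  have h8 := l872 hG h8b h8c h8f
  have h9 := l9 hG h7 h8 h8c
  have h10 := l10 hG h4 h135
  have hv := lv hG h2 h9 h10 h135
  exact ⟨h135, hc3, h1, h2, h3, h4, h5, h6, h7, h8, h9, h10, hv⟩

theorem main1430 (hG : IsMinSimpleOddOrder G) : Cfsg.Agent.Lib.Helper34.BGRows.H1430 G := by
  obtain ⟨h135, -, -, -, -, -, h5, -, -, -, h9, h10, -⟩ := all72 hG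
  exact s1430 hG h5 h9 h10 h135

theorem main1431 (hG : IsMinSimpleOddOrder G) : Cfsg.Agent.Lib.Helper34.BGRows.H1431 G := by
  obtain ⟨-, -, -, -, -, -, h5, -, -, -, -, -, hv⟩ := all72 hG
  exact s1431 hG (main1430 hG) hv h5

end Cfsg.Agent.Lib.Helper87.BG14
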