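/-
Piece [K] of helper87's BG14 farm (bulletin #848): `l8c : L8c G` from `L1 G`, `L6 G`, `L7 G`.
(helper98)
-/
import Cfsg.Agent.Lib.Helper87.BG14.H

set_option autoImplicit false
set_option linter.unusedSimpArgs false
set_option linter.unusedVariables false
set_option linter.style.haveILetI false
set_option linter.unusedSectionVars false

namespace Cfsg.Agent.Lib.Helper87.BG14

open Subgroup Cfsg
open Cfsg.Agent.Lib
open Cfsg.Agent.Lib.Helper24 Cfsg.Agent.Lib.Helper34 Cfsg.Agent.Lib.Helper31.BG11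
open scoped commutatorElement

universe u

variable {G : Type u} [Group G]

/-! ### automorphisms of cyclic `q`-groups (after helper77) -/

theorem exists_zpow_of_normalizer_cyclic98 {P : Subgroup G} (hcyc : IsCyclic P) {g : G}
    (hg : g ∈ Subgroup.normalizer (P : Set G)) : ∃ k : ℤ, ∀ y ∈ P, g * y * g⁻¹ = y ^ k := by
  obtain ⟨a, ha⟩ := hcyc.exists_generator
  have h1 : g * a * g⁻¹ ∈ P := (Subgroup.mem_normalizer_iff.1 hg a).1 a.2
  obtain ⟨k, hk⟩ := Subgroup.mem_zpowers_iff.1 (ha ⟨_, h1⟩)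
  refine ⟨k, fun y hy => ?_⟩
  obtain ⟨m, hm⟩ := Subgroup.mem_zpowers_iff.1 (ha ⟨y, hy⟩)
  have hm' : (a : G) ^ m = y := by simpa using congrArg Subtype.val hm
  have hk' : (a : G) ^ k = g * a * g⁻¹ := by simpa using congrArg Subtype.val hk
  rw [← hm', ← conj_zpow, ← hk', ← zpow_mul, ← zpow_mul, mul_comm]

theorem conj_pow_zpow98 {P : Subgroup G} {g : G} {k : ℤ} (h : ∀ y ∈ P, g * y * g⁻¹ = y ^ k)
    (j : ℕ) : ∀ y ∈ P, g ^ j * y * (g ^ j)⁻¹ = y ^ (k ^ j) := by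
  induction j with
  | zero => intro y _; simp
  | succ j ih =>
    intro y hy
    have h1 : g ^ (j + 1) * y * (g ^ (j + 1))⁻¹ = g ^ j * (g * y * g⁻¹) * (g ^ j)⁻¹ := by
      rw [pow_succ]; group
    rw [h1, h y hy, ih _ (P.zpow_mem hy k), ← zpow_mul, pow_succ, mul_comm]

variable [Finite G]

/-- an element of the normalizer of a cyclic `p`-group fixing a nonidentity element acts as a
`p`-element -/
theorem pow_mem_cen_of_fix_cyclic98 {p : ℕ} [Fact p.Prime] {P : Subgroup G} (hcyc : IsCyclic P)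
    (hPp : IsPGroup p P)
    {g : G} (hg : g ∈ Subgroup.normalizer (P : Set G)) {x : G} (hx : x ∈ P) (hx1 : x ≠ 1)
    (hfix : g * x * g⁻¹ = x) : ∃ n : ℕ, g ^ p ^ n ∈ centralizer (P : Set G) := by
  have hp : p.Prime := Fact.out
  obtain ⟨k, hk⟩ := exists_zpow_of_normalizer_cyclic98 hcyc hg
  obtain ⟨n, hn⟩ := IsPGroup.iff_card.1 hPp
  have h1 : x ^ (k - 1) = 1 := by
    rw [zpow_sub, zpow_one, ← hk x hx, hfix, mul_inv_cancel]
  have h2 : (orderOf x : ℤ) ∣ k - 1 := orderOf_dvd_iff_zpow_eq_one.2 h1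
  have h3 : p ∣ orderOf x := by
    obtain ⟨i, hi⟩ := hPp ⟨x, hx⟩
    have hi' : x ^ p ^ i = 1 := by simpa using congrArg Subtype.val hi
    obtain ⟨j, -, hj⟩ := (Nat.dvd_prime_pow hp).1 (orderOf_dvd_of_pow_eq_one hi')
    rcases Nat.eq_zero_or_pos j with rfl | hj0
    · rw [pow_zero, orderOf_eq_one_iff] at hj
      exact absurd hj hx1
    · rw [hj]; exact dvd_pow_self p hj0.ne'
  have h4 : (p : ℤ) ∣ k - 1 := (Int.natCast_dvd_natCast.2 h3).trans h2
  have h5 := dvd_sub_pow_of_dvd_sub h4 n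
  rw [one_pow] at h5
  refine ⟨n, ?_⟩
  rw [Subgroup.mem_centralizer_iff]
  intro y hy
  have h6 := conj_pow_zpow98 hk (p ^ n) y hy
  have h7 : y ^ (k ^ p ^ n - 1) = 1 := by
    apply orderOf_dvd_iff_zpow_eq_one.1
    have h8 : orderOf y ∣ p ^ n := by
      rw [← hn]
      have := orderOf_dvd_natCard (⟨y, hy⟩ : P)
      rwa [Subgroup.orderOf_mk] at this
    refine (Int.natCast_dvd_natCast.2 h8).trans (Dvd.dvd.trans ?_ h5)
    push_cast
    exact pow_dvd_pow _ (Nat.le_succ n)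
  have h9 : y ^ (k ^ p ^ n) = y := by
    have : k ^ p ^ n = (k ^ p ^ n - 1) + 1 := by ring
    rw [this, zpow_add, h7, one_mul, zpow_one]
  rw [h9] at h6
  calc y * g ^ p ^ n = (g ^ p ^ n * y * (g ^ p ^ n)⁻¹) * g ^ p ^ n := by rw [h6]
    _ = g ^ p ^ n * y := by group

/-- A group `P` of prime order `p ≠ q` normalizing a cyclic `q`-group `Q` and centralizing a
nontrivial subgroup of it centralizes `Q`. -/
theorem le_centralizer_of_cyclic98 {p q : ℕ} [hq : Fact q.Prime] (hp : p.Prime) (hpq : p ≠ q)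
    {P Q X : Subgroup G} (hP : Nat.card P = p) (hcyc : IsCyclic Q) (hQ : IsPGroup q Q)
    (hPQ : P ≤ normalizer (Q : Set G)) (hXQ : X ≤ Q) (hX1 : X ≠ ⊥)
    (hPX : P ≤ centralizer (X : Set G)) : P ≤ centralizer (Q : Set G) := by
  obtain ⟨x, hx, hx1⟩ := exists_ne_one_of_ne_bot98 hX1
  intro g hg
  have hfix : g * x * g⁻¹ = x := by
    have := mem_centralizer_iff.1 (hPX hg) x hx
    rw [← this]; group
  obtain ⟨n, hn⟩ := pow_mem_cen_of_fix_cyclic98 hcyc hQ (hPQ hg) (hXQ hx) hx1 hfix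
  have hgp : g ^ p = 1 := BG13U.pow_eq_one_of_card_prime hP hg
  have hcop : (q ^ n).Coprime p := Nat.Coprime.pow_left n
    ((Nat.coprime_primes hq.out hp).2 (Ne.symm hpq))
  exact BG16.mem_of_pow_mem_of_coprime hcop hn (by rw [hgp]; exact one_mem _)

/-- If `H` has `p`-rank one and a subgroup `P` of order `p` outside `H'`, then `p ∤ |H'|`. -/
theorem not_dvd_card_commutator98 {p : ℕ} [hp : Fact p.Prime] {H P : Subgroup G}
    (hr : PRankLE p 1 H) (hPH : P ≤ H) (hP : Nat.card P = p) (hPc : ¬ P ≤ ⁅H, H⁆) :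
    ¬ p ∣ Nat.card ↥⁅H, H⁆ := by
  intro hd
  obtain ⟨x, hx⟩ := exists_prime_orderOf_dvd_card' (G := ↥⁅H, H⁆) p hd
  have hxo : orderOf (x : G) = p := by rw [Subgroup.orderOf_coe]; exact hx
  obtain ⟨S, hS, hPS⟩ := exists_isSylowIn_ge hPH (BG13BC.isPGroup_of_card_prime hP)
  have hxH : (x : G) ∈ H := commutator_le_self H x.2
  have hzp : IsPGroup p (zpowers (x : G)) :=
    isPGroup_zpowers_of_orderOf (k := 1) (by rw [hxo, pow_one])
  obtain ⟨n, hn, hnS⟩ := hS.exists_conj_le (R := zpowers (x : G)) (by rwa [zpowers_le]) hzp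
  set X' : Subgroup G := (zpowers (x : G)).map (MulAut.conj n).toMonoidHom with hX'
  have hX'c : Nat.card X' = p := by rw [hX', card_map_conj, Nat.card_zpowers, hxo]
  have hX'H : X' ≤ ⁅H, H⁆ := by
    have h1 : zpowers (x : G) ≤ ⁅H, H⁆ := by rw [zpowers_le]; exact x.2
    calc X' ≤ (⁅H, H⁆ : Subgroup G).map (MulAut.conj n).toMonoidHom := Subgroup.map_mono h1
      _ = ⁅H, H⁆ := map_conj_eq_self_of_mem_normalizer (BG13.le_normalizer_commutator_self H hn)
  apply hPc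
  intro g hg
  exact hX'H (BG13U.mem_of_pRankLE_one hS.2.1 (pRankLE_mono hS.1 hr) hnS hX'c (hPS hg)
    (BG13U.pow_eq_one_of_card_prime hP hg))

theorem commutator_le_left_of_le_normalizer98 {X P : Subgroup G}
    (h : P ≤ normalizer (X : Set G)) : ⁅X, P⁆ ≤ X := by
  rw [commutator_le]
  intro x hx g hg
  have h1 : g * x⁻¹ * g⁻¹ ∈ X := (mem_normalizer_iff.1 (h hg) x⁻¹).1 (X.inv_mem hx)
  have : ⁅x, g⁆ = x * (g * x⁻¹ * g⁻¹) := by rw [commutatorElement_def]; group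
  rw [this]
  exact X.mul_mem hx h1

theorem kappa_rank_one98 {L : Subgroup G} {p : ℕ} (h : p ∈ kappa L) : PRankLE p 1 L := by
  haveI : Fact p.Prime := ⟨h.1⟩
  obtain ⟨P⟩ : Nonempty (Sylow p L) := inferInstance
  haveI := (h.2.2.2 P).1
  haveI : IsCyclic ↥((P : Subgroup L).map L.subtype) :=
    isCyclic_of_surjective (L.subtype.subgroupMap (P : Subgroup L))
      (MonoidHom.subgroupMap_surjective _ _)
  exact pRankLE_of_isSylowIn (Sylow.isSylowIn_map P) (BG13.pRankLE_one_of_isCyclic h.1.pos)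

theorem l8c (hG : IsMinSimpleOddOrder G) (h1 : L1 G) (h6 : L6 G) (h7 : L7 G) : L8c G := by
  intro M H E R h P hPE hp hYP
  obtain ⟨hEH, hσH, hdis, hMH, hMH', hτ2, hZE, hYZ, -⟩ := h7 M H E R h
  obtain ⟨-, -, hκH, hX6⟩ := h6 M h.hM R h.RM98 (h.kappa98 hG) H h.hH h.hNR
  have hpp : (Nat.card P).Prime := hp.1
  haveI : Fact (Nat.card P).Prime := ⟨hpp⟩
  have hPpg : IsPGroup (Nat.card P) P := BG13BC.isPGroup_of_card_prime rfl
  have hEn : E ≤ normalizer ((cs M R : Subgroup G) : Set G) :=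
    le_normalizer_cs98 h.EM98 (T3Cfg.E_norm98 hG h.hM h.hE h.hRE h.hr)
  have hcopEY : (Nat.card E).Coprime (Nat.card (cs M R)) :=
    Nat.Coprime.coprime_dvd_right (card_dvd_of_le inf_le_left) (compl_coprime98 hG h.hM h.hE)
  have hpY : ¬ Nat.card P ∣ Nat.card (cs M R) := by
    intro hd
    have := Nat.Coprime.coprime_dvd_left (card_dvd_of_le hPE) hcopEY
    exact hpp.one_lt.ne' (Nat.Coprime.eq_one_of_dvd this hd)
  -- a `P`-invariant Sylow subgroup of `Y` not centralized by `P`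
  have hex : ∃ (q : ℕ) (Q : Subgroup G), q.Prime ∧ IsSylowIn q Q (cs M R) ∧
      P ≤ normalizer (Q : Set G) ∧ ¬ Q ≤ centralizer (P : Set G) := by
    by_contra hc
    apply hYP
    have key : cs M R ⊓ centralizer (P : Set G) = cs M R := by
      apply BG13.eq_of_forall_not_dvd_relIndex inf_le_left
      intro t ht hd
      haveI : Fact t.Prime := ⟨ht⟩
      obtain ⟨T, hT, hPT⟩ := exists_inv_sylow (A := P) (K := cs M R) hPpg hpY (hPE.trans hEn) t
      have hTc : T ≤ centralizer (P : Set G) := by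
        by_contra hn
        exact hc ⟨t, T, ht, hT, hPT, hn⟩
      exact hT.2.2 (dvd_trans hd (relIndex_dvd_of_le_left _ (le_inf hT.1 hTc)))
    rw [← key]
    exact inf_le_right
  obtain ⟨q, Q, hq, hQ, hPQ, hQP⟩ := hex
  haveI : Fact q.Prime := ⟨hq⟩
  have hQcyc : IsCyclic Q :=
    h1 M h.hM (Nat.card R) h.prime98 h.hr.2.1 h.hr.2.2.2 R h.RM98 rfl q Q hq hQ.2.1 hQ.1
  have hQ1 : Q ≠ ⊥ := by
    rintro rfl
    exact hQP bot_le
  have hqQ : q ∣ Nat.card Q := Helper91.BG13.dvd_card_of_isPGroup_ne_bot' hQ.2.1 hQ1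
  have hqY : q ∣ Nat.card (cs M R) := hqQ.trans (card_dvd_of_le hQ.1)
  have hqσM : q ∈ sigma M := sc_primes M hq (hqY.trans (card_dvd_of_le inf_le_left))
  have hpq : Nat.card P ≠ q := fun he => hpY (he ▸ hqY)
  -- `X = Ω₁(Q)`
  obtain ⟨x, hx⟩ := exists_prime_orderOf_dvd_card' (G := Q) q hqQ
  have hxo : orderOf (x : G) = q := by rw [Subgroup.orderOf_coe]; exact hx
  set X : Subgroup G := zpowers (x : G) with hXdef
  have hXc : Nat.card X = q := by rw [hXdef, Nat.card_zpowers, hxo]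
  have hXQ : X ≤ Q := by rw [hXdef, zpowers_le]; exact x.2
  have hX1 : X ≠ ⊥ := BG13BC.ne_bot_of_card_prime hq hXc
  have hXY : X ≤ cs M R := hXQ.trans hQ.1
  have hPX : P ≤ normalizer (X : Set G) :=
    hPQ.trans (Helper9.BG12.normalizer_le_normalizer_of_isCyclic hQcyc hXQ)
  have hPXc : ¬ P ≤ centralizer (X : Set G) := by
    intro hc
    apply hQP
    have := le_centralizer_of_cyclic98 hpp hpq rfl hQcyc hQ.2.1 hPQ hXQ hX1 hc
    intro y hy
    rw [mem_centralizer_iff]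
    intro g hg
    exact (mem_centralizer_iff.1 (this hg) y hy).symm
  obtain ⟨hNX, hcsX⟩ := hX6 X hXY (hXc ▸ hq)
  have hYH : cs M R ≤ H := hMH ▸ inf_le_right
  have hXH : X ≤ H := hXY.trans hYH
  have hPH : P ≤ H := hPE.trans hEH
  have hXpg : IsPGroup q X := BG13BC.isPGroup_of_card_prime hXc
  have hact : ⁅X, P⁆ ≠ ⊥ := by
    intro hc
    rw [commutator_comm, commutator_eq_bot_iff_le_centralizer] at hc
    exact hPXc hc
  have hnc : ∀ g, M ≠ cj g H := by
    intro g he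
    have h2 : Nat.card R ∈ sigma (cj g H) := (sigma_cj_iff g).2 hσH
    rw [← he] at h2
    exact h.hr.2.1 h2
  obtain ⟨hpσ, hPH', hpr⟩ := BG13BC.star_cor hG h.hH h.hM hnc hqσM hpq hXH hXpg hPH rfl hPX hact
  have hpτ1 : Nat.card P ∈ tau1 H :=
    ⟨hpp, hpσ, (card_dvd_of_le hPH), not_dvd_card_commutator98 hpr hPH rfl hPH', hpr⟩
  -- `q ∈ τ₃(H)`
  have hqκ : q ∈ kappa H := hκH q hq hqY
  have hXcomm : X ≤ ⁅H, H⁆ := by
    have h2 : ⁅X, P⁆ ≤ X := commutator_le_left_of_le_normalizer98 hPX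
    have h3 : ⁅X, P⁆ = X := by
      haveI : Fact (Nat.card X).Prime := ⟨hXc ▸ hq⟩
      rcases Subgroup.eq_bot_or_eq_top_of_prime_card ((⁅X, P⁆ : Subgroup G).subgroupOf X) with h4 | h4
      · rw [subgroupOf_eq_bot, disjoint_iff, inf_eq_left.2 h2] at h4
        exact absurd h4 hact
      · rw [subgroupOf_eq_top] at h4
        exact le_antisymm h2 h4
    rw [← h3]
    exact commutator_mono hXH hPH
  have hqτ3 : q ∈ tau3 H :=
    ⟨hq, hqκ.2.2.1, hXc ▸ (card_dvd_of_le hXcomm), kappa_rank_one98 hqκ⟩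
  -- the complement `E'`
  obtain ⟨E', hE', hXPE'⟩ := BG13.exists_compl_ge hG (BG13BC.ut hG) h.hH
    (K := P ⊔ X) (sup_le hPH hXH) (by
      intro r hr hd
      rcases BG13BC.prime_dvd_card_sup hPX hr hd with h2 | h2
      · rw [(Nat.prime_dvd_prime_iff_eq hr hpp).1 h2]; exact hpσ
      · rw [hXc] at h2
        rw [(Nat.prime_dvd_prime_iff_eq hr hq).1 h2]; exact hqκ.2.2.1)
  haveI : Fact (Nat.card R).Prime := ⟨h.prime98⟩
  have hRσ : R ≤ sigmaCore H := le_sc hG (BG13BC.ut hG) h.hH hσH (h.hRE.trans hEH)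
    (BG13BC.isPGroup_of_card_prime rfl)
  have hcs1 : cs H X ≠ ⊥ := by
    rw [hcsX]
    intro hb
    have : R ≤ (⊥ : Subgroup G) := hb ▸ le_inf hRσ h.RM98
    exact BG13BC.ne_bot_of_card_prime h.prime98 rfl (le_bot_iff.1 this)
  exact ⟨E', X, ⟨h.hH, h.hM, hE', le_sup_right.trans hXPE', hXc ▸ hqτ3, hcs1, hNX⟩,
    le_sup_left.trans hXPE', hpτ1, hPXc⟩

end Cfsg.Agent.Lib.Helper87.BG14
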