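/-
Piece [H] of helper87's farm (bulletin #848), written by helper22: `L7` (the `τ₃` set-up) from `L5`, `L6`.
-/
import Cfsg.Agent.Lib.Helper87.BG14.Defs
import Cfsg.Agent.Lib.Helper24.BG13BC
import Cfsg.Agent.Lib.Helper9.BG147A
import Cfsg.Agent.Lib.Helper1.FrobComplement
import Cfsg.Agent.S1415

set_option autoImplicit false
set_option linter.unusedSectionVars false
set_option linter.unusedVariables false
set_option linter.style.haveILetI false

namespace Cfsg.Agent.Lib.Helper87.BG14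

open Subgroup Cfsg
open Cfsg.Agent.Lib
open Cfsg.Agent.Lib.Helper24 Cfsg.Agent.Lib.Helper34 Cfsg.Agent.Lib.Helper31.BG11
open Cfsg.Agent.Lib.Helper24.BG13BC
open scoped commutatorElement

universe u

variable {G : Type u} [Group G] [Finite G]

/-- If `N ⊴ L` has a normal `q`-complement for every prime `q` dividing `|X|`, then a subgroup `Y` of `N`
of order coprime to `|X|` centralizes `X ≤ L` as soon as it normalizes it. -/
theorem l7_comm {L N X Y : Subgroup G} (hNL : L ≤ normalizer (N : Set G))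
    (hc : ∀ q : ℕ, q.Prime → q ∣ Nat.card X → HasNormalPComplement q ↥N)
    (hXL : X ≤ L) (hYN : Y ≤ N) (hcop : (Nat.card X).Coprime (Nat.card Y))
    (hYX : Y ≤ normalizer (X : Set G)) : ∀ x ∈ X, ∀ y ∈ Y, x * y = y * x := by
  intro x hx y hy
  by_contra hne
  have h1 : ⁅x, y⁆ ∈ X := by
    have h2 : y * x⁻¹ * y⁻¹ ∈ X := le_normalizer_iff.mp hYX y hy x⁻¹ (inv_mem hx)
    have h3 : ⁅x, y⁆ = x * (y * x⁻¹ * y⁻¹) := by rw [commutatorElement_def]; group
    rw [h3]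
    exact mul_mem hx h2
  have hc1 : ⁅x, y⁆ ≠ 1 := by
    intro h
    apply hne
    rw [commutatorElement_def] at h
    have := congrArg (fun z => z * y * x) h
    simpa [mul_assoc] using this
  have ho1 : orderOf ⁅x, y⁆ ≠ 1 := fun h => hc1 (orderOf_eq_one_iff.1 h)
  obtain ⟨q, hq, hqd⟩ := Nat.exists_prime_and_dvd ho1
  haveI : Fact q.Prime := ⟨hq⟩
  have hoX : orderOf ⁅x, y⁆ ∣ Nat.card X := by
    have := orderOf_dvd_natCard (⟨_, h1⟩ : X)
    rwa [Subgroup.orderOf_mk] at this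
  have hqX : q ∣ Nat.card X := hqd.trans hoX
  obtain ⟨P, O, hOn, hOP⟩ := hc q hq hqX
  have hOcard : ¬ q ∣ Nat.card O := by
    rw [← hOP.index_eq_card]
    exact P.not_dvd_index
  have key : ∀ y : N, (orderOf y).Coprime q → y ∈ O := by
    intro y hy
    rw [← QuotientGroup.eq_one_iff, ← orderOf_eq_one_iff]
    have h1 : orderOf (y : N ⧸ O) ∣ orderOf y := orderOf_map_dvd (QuotientGroup.mk' O) y
    have h2 : orderOf (y : N ⧸ O) ∣ Nat.card (N ⧸ O) := orderOf_dvd_natCard _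
    obtain ⟨k, hk⟩ := IsPGroup.iff_card.1 P.2
    have h3 : Nat.card (N ⧸ O) = q ^ k := by
      rw [← hk, ← hOP.symm.index_eq_card]
      rfl
    rw [h3] at h2
    exact Nat.eq_one_of_dvd_coprimes (hy.pow_right k) h1 h2
  have hyo : (orderOf y).Coprime q := by
    have h1 : orderOf y ∣ Nat.card Y := by
      have := orderOf_dvd_natCard (⟨y, hy⟩ : Y)
      rwa [Subgroup.orderOf_mk] at this
    exact (hcop.symm.coprime_dvd_left h1).coprime_dvd_right hqX
  have hxy : x * y * x⁻¹ ∈ N := le_normalizer_iff.mp hNL x (hXL hx) y (hYN hy)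
  have h2 : (⟨x * y * x⁻¹, hxy⟩ : N) ∈ O := by
    apply key
    rw [Subgroup.orderOf_mk]
    have : orderOf (x * y * x⁻¹) = orderOf y :=
      orderOf_injective (MulAut.conj x).toMonoidHom (MulAut.conj x).injective y
    rw [this]
    exact hyo
  have h3 : (⟨y, hYN hy⟩ : N) ∈ O := by
    apply key
    rw [Subgroup.orderOf_mk]
    exact hyo
  have h4 : (⟨x * y * x⁻¹, hxy⟩ * ⟨y, hYN hy⟩⁻¹ : N) ∈ O := mul_mem h2 (inv_mem h3)
  have h5 : ⁅x, y⁆ ^ Nat.card O = 1 := by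
    have h6 := pow_card_eq_one' (G := O) (x := ⟨_, h4⟩)
    have h7 := congrArg (fun z : O => ((z : N) : G)) h6
    exact h7
  exact hOcard (hqd.trans (orderOf_dvd_of_pow_eq_one h5))

/-- A subgroup of prime order `r ∈ τ₃(M)` of a complement `E` lies in every Hall `τ₃(M)`-subgroup. -/
theorem l7_le_E3 (hG : IsMinSimpleOddOrder G) {M E E₃ R : Subgroup G} (hM : IsCoatom M)
    (hE : IsComplIn E (sigmaCore M) M) (hE₃ : IsPiHallOf (tau3 M) E₃ E) (hRE : R ≤ E)
    (hr : Nat.card R ∈ tau3 M) : R ≤ E₃ := by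
  haveI : Fact (Nat.card R).Prime := ⟨hr.1⟩
  obtain ⟨-, -, h3⟩ := Cfsg.Agent.S1415.result hG M hM E hE
  obtain ⟨-, -, hn⟩ := h3 E₃ hE₃
  exact le_of_normal_of_not_dvd hE₃.1 hn (hE₃.2.2 _ hr.1 hr) hRE (isPGroup_of_card_prime rfl)

theorem l7_exists_E3 (hG : IsMinSimpleOddOrder G) {M E : Subgroup G} (hM : IsCoatom M)
    (hE : IsComplIn E (sigmaCore M) M) : ∃ E₃, IsPiHallOf (tau3 M) E₃ E := by
  have hEt : E ≠ ⊤ := ne_top_of_le_ne_top hM.1 hE.1
  obtain ⟨E₃, h, -⟩ := Helper9.BG147A.hall_ge (π := tau3 M) (MS_solvable hG hEt)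
    (bot_le : (⊥ : Subgroup G) ≤ E) (by
      intro p hp hd
      rw [card_bot] at hd
      exact absurd (Nat.dvd_one.1 hd) hp.one_lt.ne')
  exact ⟨E₃, h⟩

/-- A subgroup of prime order `r ∈ τ₃(M)` of a complement `E` is normal in `E`. -/
theorem l7_normal (hG : IsMinSimpleOddOrder G) {M E R : Subgroup G} (hM : IsCoatom M)
    (hE : IsComplIn E (sigmaCore M) M) (hRE : R ≤ E) (hr : Nat.card R ∈ tau3 M) :
    E ≤ normalizer (R : Set G) := by
  obtain ⟨E₃, hE₃⟩ := l7_exists_E3 hG hM hE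
  have hR3 := l7_le_E3 hG hM hE hE₃ hRE hr
  obtain ⟨-, -, h3⟩ := Cfsg.Agent.S1415.result hG M hM E hE
  obtain ⟨hcyc, -, hn⟩ := h3 E₃ hE₃
  intro e he
  apply mem_normalizer_of_map_conj_eq
  have h1 : cj e R ≤ E₃ :=
    (cj_mono e hR3).trans (le_of_eq (map_conj_eq_self_of_mem_normalizer (hn he)))
  have h2 : (cj e R).subgroupOf E₃ = R.subgroupOf E₃ := by
    apply Helper1.FrobComplement.eq_of_card_eq_of_isCyclic
    rw [Helper1.card_subgroupOf h1, Helper1.card_subgroupOf hR3, card_map_conj]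
  rw [Subgroup.subgroupOf_inj, inf_eq_left.2 h1, inf_eq_left.2 hR3] at h2
  exact h2

/-- `r ∈ τ₃(M)` with `C_{M_σ}(R) ≠ 1` lies in `κ(M)`. -/
theorem l7_kappa (hG : IsMinSimpleOddOrder G) {M R : Subgroup G} (hM : IsCoatom M) (hRM : R ≤ M)
    (hp : (Nat.card R).Prime) (hσ : Nat.card R ∉ sigma M) (h1 : PRankLE (Nat.card R) 1 M)
    (hY : cs M R ≠ ⊥) : Nat.card R ∈ kappa M := by
  obtain ⟨w, hw, hw1⟩ := exists_ne_one_of_card_prime hp rfl
  obtain ⟨y, hy, hy1⟩ : ∃ y ∈ cs M R, y ≠ 1 := by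
    by_contra hcon
    push Not at hcon
    exact hY ((eq_bot_iff_forall _).mpr hcon)
  have hwo : orderOf w = Nat.card R := by
    rw [← Nat.card_zpowers, ← eq_zpowers_of_card_prime hp rfl hw hw1]
  refine BG16.mem_kappa_of hG hM hp hσ h1 (hRM hw) hwo hy.1 hy1 ?_
  exact (mem_centralizer_iff.1 hy.2 w hw)

/-- The core of `L7`. -/
theorem l7_core (hG : IsMinSimpleOddOrder G) (h5 : L5 G) (h6 : L6 G) {M H E R : Subgroup G}
    (c : T3Cfg M H E R) :
    E ≤ H ∧ Nat.card R ∈ sigma H ∧ (∀ q, q ∈ sigma M → q ∉ sigma H) ∧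
    sigmaCore M ⊓ H = cs M R ∧
    ∀ E₃, IsPiHallOf (tau3 M) E₃ E → cs M R ≤ centralizer (E₃ : Set G) := by
  obtain ⟨hM, hH, hE, hRE, hr, hY, hNR⟩ := c
  have hU := ut hG
  have hEH : E ≤ H := (l7_normal hG hM hE hRE hr).trans hNR
  have hRM : R ≤ M := hRE.trans hE.1
  have hκ : Nat.card R ∈ kappa M := l7_kappa hG hM hRM hr.1 hr.2.1 hr.2.2.2 hY
  have hσ := h5 M hM R hRM hκ H hH hNR
  obtain ⟨hdisj, hMsH, -, -⟩ := h6 M hM R hRM hκ H hH hNR
  refine ⟨hEH, hσ, hdisj, hMsH, ?_⟩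
  intro E₃ hE₃
  obtain ⟨-, -, h3⟩ := Cfsg.Agent.S1415.result hG M hM E hE
  obtain ⟨-, hE3', -⟩ := h3 E₃ hE₃
  have hYH : cs M R ≤ H := hMsH ▸ inf_le_right
  have hYp : ∀ q : ℕ, q.Prime → q ∣ Nat.card (cs M R) → q ∈ sigma M := fun q hq hd =>
    sc_primes M hq (hd.trans (card_dvd_of_le inf_le_left))
  have hcomm := l7_comm (L := H) (N := ⁅H, H⁆) (X := cs M R) (Y := E₃)
    (BG13.le_normalizer_commutator_self H) (by
      intro q hq hd
      have hqH : q ∣ Nat.card H := hd.trans (card_dvd_of_le hYH)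
      have hβ : q ∉ beta H := fun h => hdisj q (hYp q hq hd) (alpha_subset_sigma hG hU hH h.1)
      exact (h14 hG H hH q hq hqH hβ).1) hYH
    (hE3'.trans (commutator_mono hEH hEH)) (by
      apply Nat.coprime_of_dvd
      intro k hk h1 h2
      exact BG13.compl_not_sigma hG hU hM hE hk (h2.trans (card_dvd_of_le hE₃.1)) (hYp k hk h1)) (by
      intro e he
      have heE : e ∈ E := hE₃.1 he
      rw [← hMsH]
      exact Helper22.le_normalizer_inf (A := M ⊓ H) (inf_le_left.trans (sc_norm M))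
        (inf_le_right.trans (le_normalizer (H := H))) ⟨hE.1 heE, hEH heE⟩)
  intro y hy
  rw [mem_centralizer_iff]
  intro e he
  exact (hcomm y hy e he).symm

/-- **L7** (the `τ₃` set-up). -/
theorem l7_h22 (hG : IsMinSimpleOddOrder G) (h5 : L5 G) (h6 : L6 G) : L7 G := by
  intro M H E R c
  obtain ⟨hEH, hσ, hdisj, hMsH, hcen⟩ := l7_core hG h5 h6 c
  obtain ⟨hM, hH, hE, hRE, hr, hY, hNR⟩ := c
  have hU := ut hG
  have hne : H ≠ M := by
    rintro rfl
    exact hr.2.1 hσ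
  have hcopσ : (Nat.card (sigmaCore M)).Coprime (Nat.card (sigmaCore H)) :=
    Nat.coprime_of_dvd fun k hk h1 h2 => hdisj k (sc_primes M hk h1) (sc_primes H hk h2)
  have hcomm : ∀ y ∈ cs M R, ∀ z ∈ sigmaCore H ⊓ M, y * z = z * y := by
    intro y hy z hz
    rw [← hMsH] at hy
    have h1 : ⁅y, z⁆ ∈ sigmaCore M := by
      have h2 : z * y⁻¹ * z⁻¹ ∈ sigmaCore M :=
        le_normalizer_iff.mp (sc_norm M) z hz.2 y⁻¹ (inv_mem hy.1)
      have h3 : ⁅y, z⁆ = y * (z * y⁻¹ * z⁻¹) := by rw [commutatorElement_def]; group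
      rw [h3]
      exact mul_mem hy.1 h2
    have h2 : ⁅y, z⁆ ∈ sigmaCore H := by
      have h2 : y * z * y⁻¹ ∈ sigmaCore H := le_normalizer_iff.mp (sc_norm H) y hy.2 z hz.1
      rw [commutatorElement_def]
      exact mul_mem h2 (inv_mem hz.1)
    have h3 : ⁅y, z⁆ ∈ sigmaCore M ⊓ sigmaCore H := ⟨h1, h2⟩
    rw [(Subgroup.disjoint_of_coprime_natCard hcopσ).eq_bot, mem_bot] at h3
    exact commutatorElement_eq_one_iff_mul_comm.1 h3
  refine ⟨hEH, hσ, hdisj, hMsH, ?_, ?_, ?_, ?_, ?_⟩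
  · apply le_antisymm
    · intro x hx
      obtain ⟨e, he, s, hs, rfl⟩ := hE.2.2.2 x hx.1
      have hsH : s ∈ H := by
        have := mul_mem (inv_mem (hEH he)) hx.2
        simpa using this
      have hsY : s ∈ cs M R := by
        rw [← hMsH]
        exact ⟨hs, hsH⟩
      exact mul_mem (le_sup_right (a := cs M R) he) (le_sup_left (b := E) hsY)
    · exact sup_le (le_inf (inf_le_left.trans (sc_le M)) (hMsH ▸ inf_le_right)) (le_inf hE.1 hEH)
  · rw [Set.eq_empty_iff_forall_notMem]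
    intro q hq
    haveI : Fact q.Prime := ⟨hq.1⟩
    obtain ⟨A, hA⟩ := BG16.exists_T2 hE hq
    have := (Cfsg.Agent.S1417.result hG M hM q hq A
      ⟨hA.le.trans hE.1, hA.elem, hA.card⟩).2.2.2.2.1 H hH hne (hA.le.trans hEH)
    exact hY (hMsH ▸ this)
  · intro z hz
    obtain ⟨e, he, s, hs, hzes⟩ := hE.2.2.2 z hz.2
    have hsH : s ∈ H := by
      have := mul_mem (inv_mem (hEH he)) (sc_le H hz.1)
      rw [hzes] at this
      simpa using this
    have hsY : s ∈ cs M R := by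
      rw [← hMsH]
      exact ⟨hs, hsH⟩
    have h1 := hcomm s hsY z hz
    have hes : Commute e s := by
      rw [hzes] at h1
      have h2 : s * e = e * s := by
        have := congrArg (fun w => w * s⁻¹) h1
        simpa [mul_assoc] using this
      exact h2.symm
    have hzn : z ^ Nat.card (sigmaCore H) = 1 := by
      have := pow_card_eq_one' (G := sigmaCore H) (x := ⟨z, hz.1⟩)
      exact congrArg Subtype.val this
    rw [hzes, hes.mul_pow] at hzn
    have h2 : s ^ Nat.card (sigmaCore H) ∈ E ⊓ sigmaCore M := by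
      have h3 : s ^ Nat.card (sigmaCore H) = (e ^ Nat.card (sigmaCore H))⁻¹ :=
        (inv_eq_of_mul_eq_one_right hzn).symm
      have h4 : s ^ Nat.card (sigmaCore H) ∈ E := by
        rw [h3]
        exact inv_mem (pow_mem he _)
      exact ⟨h4, pow_mem hs _⟩
    rw [hE.2.2.1, mem_bot] at h2
    have h3 : s ^ Nat.card (sigmaCore M) = 1 := by
      have := pow_card_eq_one' (G := sigmaCore M) (x := ⟨s, hs⟩)
      exact congrArg Subtype.val this
    have hs1 : s = 1 := Helper23.eq_one_of_pow_coprime hcopσ h3 h2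
    rw [hzes, hs1, mul_one]
    exact he
  · intro y hy
    rw [mem_centralizer_iff]
    intro z hz
    exact (hcomm y hy z hz).symm
  · intro R' hR'E hr'
    obtain ⟨E₃, hE₃⟩ := l7_exists_E3 hG hM hE
    have hR3 := l7_le_E3 hG hM hE hE₃ hRE hr
    have hR'3 := l7_le_E3 hG hM hE hE₃ hR'E hr'
    have h1 : cs M R ≤ cs M R' := le_inf inf_le_left ((hcen E₃ hE₃).trans (centralizer_le hR'3))
    have hY' : cs M R' ≠ ⊥ := fun h => hY (le_bot_iff.1 (h ▸ h1))
    have hR'1 : R' ≠ ⊥ := ne_bot_of_card_prime hr'.1 rfl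
    have hR't : R' ≠ ⊤ := ne_top_of_le_ne_top hM.1 (hR'E.trans hE.1)
    obtain ⟨H', hH', hNR'⟩ := exists_coatom_ge (MS_normalizer_ne_top hG hR'1 hR't)
    obtain ⟨-, -, -, -, hcen'⟩ :=
      l7_core hG h5 h6 (⟨hM, hH', hE, hR'E, hr', hY', hNR'⟩ : T3Cfg M H' E R')
    exact le_antisymm (le_inf inf_le_left ((hcen' E₃ hE₃).trans (centralizer_le hR3))) h1

end Cfsg.Agent.Lib.Helper87.BG14
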