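/- helper31: piece [O] of helper87's BG14 farm (#848): L8f and L8 (BG 13.10). -/
import Cfsg.Agent.Lib.Helper87.BG14.Defs
import Cfsg.Agent.Lib.Helper87.BG14.H
import Cfsg.Agent.Lib.Helper87.BG14.Gam
import Cfsg.Agent.Lib.Helper87.BG14.L8g
import Cfsg.Agent.Lib.Helper58.BG13L
import Cfsg.Agent.Lib.Helper34.BG16a

set_option autoImplicit false
set_option linter.unusedSimpArgs false
set_option linter.unusedVariables false
set_option linter.style.haveILetI false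
set_option linter.unusedSectionVars false

namespace Cfsg.Agent.Lib.Helper87.BG14

open Subgroup Cfsg
open Cfsg.Agent.Lib
open Cfsg.Agent.Lib.Helper24 Cfsg.Agent.Lib.Helper34 Cfsg.Agent.Lib.Helper31.BG11
open Cfsg.Agent.Lib.Helper58.BG139 Cfsg.Agent.Lib.Helper58.BG13L

universe u

variable {G : Type u} [Group G] [Finite G]

/-- One half of `L8f`: the facts about `(M, H, E, R)` given the mirror configuration. -/
theorem l8f_half (hG : IsMinSimpleOddOrder G) (h7 : L7 G) (h8a : L8a G)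
    {M H E R E' X P : Subgroup G} (c : T3Cfg M H E R) (c' : T3Cfg H M E' X) (hPE : P ≤ E)
    (hp : Nat.card P ∈ tau1 M) (hPR : ¬ P ≤ centralizer (R : Set G))
    (hPX : ¬ P ≤ centralizer (X : Set G)) :
    ¬ cs M P ≤ cs M R ∧ ¬ cs M R ≤ centralizer (P : Set G) ∧ Nat.card P ∈ kappa M := by
  have hU := ut hG
  obtain ⟨-, -, -, hMH, -, -, -, -, -⟩ := h7 M H E R c
  obtain ⟨hE'M, hXσ, -, -, -, -, -, -, -⟩ := h7 H M E' X c'
  have h1 := (h8a M H E R c P hPE hp hPR).1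
  haveI : Fact (Nat.card X).Prime := ⟨c'.hr.1⟩
  haveI : Fact (Nat.card P).Prime := ⟨hp.1⟩
  have hXle : X ≤ cs M R := by
    rw [← hMH]
    exact le_inf (le_sc hG hU c.hM hXσ (c'.hRE.trans hE'M) (isPGroup_of_card_prime rfl))
      (c'.hRE.trans c'.hE.1)
  refine ⟨h1, fun h => hPX (le_centralizer_iff.1 (hXle.trans h)), ?_⟩
  have hne : cs M P ≠ ⊥ := fun hb => h1 (hb ▸ bot_le)
  have hPpg : IsPGroup (Nat.card P) P := isPGroup_of_card_prime rfl
  have hP1 : P ≠ ⊥ := ne_bot_of_card_prime hp.1 rfl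
  obtain ⟨w, hw, hwo⟩ := exists_orderOf_eq_prime hPpg hP1
  obtain ⟨y, hy, hy1⟩ := exists_ne_one_of_ne_bot98 hne
  exact BG16.mem_kappa_of hG c.hM hp.1 hp.2.1 hp.2.2.2.2 (c.hE.1 (hPE hw)) hwo hy.1 hy1
    ((mem_centralizer_iff.1 hy.2 w hw))

/-- The contradiction in one of the two alternatives of `gam`. -/
theorem l8f_alt (hG : IsMinSimpleOddOrder G) (h6 : L6 G) (h8e : L8e G)
    {M H E R P T : Subgroup G} {g : G} (c : T3Cfg M H E R) (hPE : P ≤ E)
    (hp : Nat.card P ∈ tau1 M) (hκ : Nat.card P ∈ kappa M) (h1 : ¬ cs M P ≤ cs M R)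
    (h2 : ¬ cs M R ≤ centralizer (P : Set G)) (hg : g ∈ centralizer (P : Set G))
    (hT : T ≤ cs M P) (hTp : (Nat.card T).Prime)
    (hN : (cs H P).map (MulAut.conj g).toMonoidHom ≤ normalizer (T : Set G)) : cs H P = ⊥ := by
  haveI : Fact (Nat.card P).Prime := ⟨hp.1⟩
  have hPpg : IsPGroup (Nat.card P) P := isPGroup_of_card_prime rfl
  have hP1 : P ≠ ⊥ := ne_bot_of_card_prime hp.1 rfl
  have hPM : P ≤ M := hPE.trans c.hE.1
  obtain ⟨HP, hHP, hNHP⟩ := exists_coatom_ge (MS_normalizer_ne_top hG hP1 (MS_isPGroup_ne_top hG hPpg))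
  have hNT : normalizer (T : Set G) ≤ M := ((h6 M c.hM P hPM hκ HP hHP hNHP).2.2.2 T hT hTp).1
  have hbot := h8e M H E R c P hPE hp h1 h2 ((cs H P).map (MulAut.conj g).toMonoidHom)
    (le_inf (hN.trans hNT) (by
      rintro _ ⟨x, hx, rfl⟩
      exact mul_mem (mul_mem hg hx.2) (inv_mem hg)))
    (fun t ht hd => by
      rw [show Nat.card ((cs H P).map (MulAut.conj g).toMonoidHom) = Nat.card (cs H P) from
        card_map_conj g _] at hd
      exact sc_primes H ht (hd.trans (card_dvd_of_le inf_le_left)))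
  exact (Subgroup.map_eq_bot_iff_of_injective _ (MulAut.conj g).injective).1 hbot

theorem l8f (hG : IsMinSimpleOddOrder G) (h1 : L1 G) (h6 : L6 G) (h7 : L7 G) (h8a : L8a G)
    (h8e : L8e G) (h8g : L8g G) : L8f G := by
  intro M H E R E' X P c c' hPE hPE' hp hp' hPR hPX
  obtain ⟨a1, a2, a3⟩ := l8f_half hG h7 h8a c c' hPE hp hPR hPX
  obtain ⟨b1, b2, b3⟩ := l8f_half hG h7 h8a c' c hPE' hp' hPX hPR
  obtain ⟨-, -, hdis, -, -, -, -, -, -⟩ := h7 M H E R c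
  haveI : Fact (Nat.card P).Prime := ⟨hp.1⟩
  have hPpg : IsPGroup (Nat.card P) P := isPGroup_of_card_prime rfl
  have hP1 : P ≠ ⊥ := ne_bot_of_card_prime hp.1 rfl
  have hPM : P ≤ M := hPE.trans c.hE.1
  have hPH : P ≤ H := hPE'.trans c'.hE.1
  have hD1 : cs M P ≠ ⊥ := fun hb => a1 (hb ▸ bot_le)
  have hD2 : cs H P ≠ ⊥ := fun hb => b1 (hb ▸ bot_le)
  have hCtop : centralizer (P : Set G) ≠ ⊤ :=
    ne_top_of_le_ne_top (MS_normalizer_ne_top hG hP1 (MS_isPGroup_ne_top hG hPpg))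
      (centralizer_le_normalizer' P)
  have hcop : (Nat.card (cs M P)).Coprime (Nat.card (cs H P)) :=
    Nat.coprime_of_dvd fun k hk k1 k2 =>
      hdis k (sc_primes M hk (k1.trans (card_dvd_of_le inf_le_left)))
        (sc_primes H hk (k2.trans (card_dvd_of_le inf_le_left)))
  obtain ⟨g, hg, hcase⟩ := gam (centralizer (P : Set G)) (cs M P) (cs H P) (MS_solvable hG hCtop)
    inf_le_right inf_le_right hD1 hD2 hcop (h8g M c.hM P hPM a3) (h8g H c.hH P hPH b3)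
    (fun t T ht hT hTle => h1 M c.hM _ hp.1 hp.2.1 hp.2.2.2.2 P hPM rfl t T ht hT hTle)
    (fun t T ht hT hTle => h1 H c.hH _ hp'.1 hp'.2.1 hp'.2.2.2.2 P hPH rfl t T ht hT hTle)
  rcases hcase with ⟨T, hT, hTp, hN⟩ | ⟨T, hT, hTp, hN⟩
  · exact hD2 (l8f_alt hG h6 h8e c hPE hp a3 a1 a2 hg hT hTp hN)
  · exact hD1 (l8f_alt hG h6 h8e c' hPE' hp' b3 b1 b2 hg hT hTp hN)

theorem l8 (hG : IsMinSimpleOddOrder G) (h8b : L8b G) (h8c : L8c G) (h8f : L8f G) : L8 G := by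
  intro M E R P hM hE hRE hr hY hPE hp
  haveI : Fact (Nat.card R).Prime := ⟨hr.1⟩
  have hRpg : IsPGroup (Nat.card R) R := isPGroup_of_card_prime rfl
  have hR1 : R ≠ ⊥ := ne_bot_of_card_prime hr.1 rfl
  obtain ⟨H, hH, hNH⟩ := exists_coatom_ge (MS_normalizer_ne_top hG hR1 (MS_isPGroup_ne_top hG hRpg))
  have c : T3Cfg M H E R := ⟨hM, hH, hE, hRE, hr, hY, hNH⟩
  by_cases hc : cs M R ≤ centralizer (P : Set G)
  · exact h8b M H E R c P hPE hp hc
  · obtain ⟨E', X, c', hPE', hp', hPX⟩ := h8c M H E R c P hPE hp hc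
    by_contra hPR
    exact h8f M H E R E' X P c c' hPE hPE' hp hp' hPR hPX

end Cfsg.Agent.Lib.Helper87.BG14
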