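/- helper31: chains all the pieces of helper87's BG14 farm (#848). -/
import Cfsg.Agent.Lib.Helper87.BG14.A
import Cfsg.Agent.Lib.Helper87.BG14.B
import Cfsg.Agent.Lib.Helper87.BG14.C
import Cfsg.Agent.Lib.Helper87.BG14.D
import Cfsg.Agent.Lib.Helper87.BG14.E
import Cfsg.Agent.Lib.Helper87.BG14.F
import Cfsg.Agent.Lib.Helper87.BG14.G
import Cfsg.Agent.Lib.Helper87.BG14.H
import Cfsg.Agent.Lib.Helper87.BG14.L8a
import Cfsg.Agent.Lib.Helper87.BG14.J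
import Cfsg.Agent.Lib.Helper87.BG14.K
import Cfsg.Agent.Lib.Helper87.BG14.L8e
import Cfsg.Agent.Lib.Helper87.BG14.L8g
import Cfsg.Agent.Lib.Helper87.BG14.O
import Cfsg.Agent.Lib.Helper87.BG14.P
import Cfsg.Agent.Lib.Helper87.BG14.Q
import Cfsg.Agent.Lib.Helper87.BG14.LV
import Cfsg.Agent.Lib.Helper87.BG14.S30
import Cfsg.Agent.Lib.Helper87.BG14.S31

set_option autoImplicit false

namespace Cfsg.Agent.Lib.Helper87.BG14.Main

open Subgroup Cfsg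

universe u

variable {G : Type u} [Group G] [Finite G]

theorem m135 (hG : IsMinSimpleOddOrder G) : L135 G := l135 hG
theorem mc3 (hG : IsMinSimpleOddOrder G) : C3 G := c3 hG
theorem m1 (hG : IsMinSimpleOddOrder G) : L1 G := l1 hG
theorem m2 (hG : IsMinSimpleOddOrder G) : L2 G := l2 hG (m1 hG)
theorem m3 (hG : IsMinSimpleOddOrder G) : L3 G := l3 hG (m2 hG) (m135 hG)
theorem m4 (hG : IsMinSimpleOddOrder G) : L4 G := l4 hG (m3 hG)
theorem m5 (hG : IsMinSimpleOddOrder G) : L5 G := l5 hG (m4 hG)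
theorem m6 (hG : IsMinSimpleOddOrder G) : L6 G := l6 hG (m5 hG)
theorem m7 (hG : IsMinSimpleOddOrder G) : L7 G := l7 hG (m5 hG) (m6 hG)
theorem m8a (hG : IsMinSimpleOddOrder G) : L8a G := l8a hG (m5 hG) (m6 hG) (m7 hG)
theorem m8b (hG : IsMinSimpleOddOrder G) : L8b G :=
  l8b hG (m135 hG) (mc3 hG) (m6 hG) (m7 hG) (m8a hG)
theorem m8c (hG : IsMinSimpleOddOrder G) : L8c G := l8c hG (m1 hG) (m6 hG) (m7 hG)
theorem m8e (hG : IsMinSimpleOddOrder G) : L8e G := l8e hG (m7 hG)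
theorem m8g (hG : IsMinSimpleOddOrder G) : L8g G := l8g hG (m1 hG) (m6 hG)
theorem m8f (hG : IsMinSimpleOddOrder G) : L8f G :=
  l8f hG (m1 hG) (m6 hG) (m7 hG) (m8a hG) (m8e hG) (m8g hG)
theorem m8 (hG : IsMinSimpleOddOrder G) : L8 G := l8 hG (m8b hG) (m8c hG) (m8f hG)
theorem m9 (hG : IsMinSimpleOddOrder G) : L9 G := l9 hG (m7 hG) (m8 hG) (m8c hG)
theorem m10 (hG : IsMinSimpleOddOrder G) : L10 G := l10 hG (m4 hG) (m135 hG)
theorem mv (hG : IsMinSimpleOddOrder G) : LV G := lv hG (m2 hG) (m9 hG) (m10 hG) (m135 hG)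
theorem h1430 (hG : IsMinSimpleOddOrder G) : Cfsg.Agent.Lib.Helper34.BGRows.H1430 G :=
  s1430 hG (m5 hG) (m9 hG) (m10 hG) (m135 hG)
theorem h1431 (hG : IsMinSimpleOddOrder G) : Cfsg.Agent.Lib.Helper34.BGRows.H1431 G :=
  s1431 hG (h1430 hG) (mv hG) (m5 hG)

end Cfsg.Agent.Lib.Helper87.BG14.Main
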