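/-
Helper library (helper87): the steps of the proof of S1435 (BG "P2type_signalizer") and S1363 as `Prop`s.
-/
import Cfsg.Agent.Lib.Helper87.BG14.Defs

set_option autoImplicit false

namespace Cfsg.Agent.Lib.Helper87.BG14

open Subgroup Cfsg

universe u

/-- `M = K U M_σ` with `K ≠ 1`, `U ≠ 1`, and its partner `Mstar`. -/
structure P2Ctx {G : Type u} [Group G] (M K U Mstar : Subgroup G) : Prop where
  hM : IsCoatom M
  hKU : IsSigmaDecomposition M K U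
  hK1 : K ≠ ⊥
  hU1 : U ≠ ⊥
  hMstar : IsCoatom Mstar
  hKst : K = sigmaCore Mstar ⊓ centralizer ((cs M K : Subgroup G) : Set G)
  hKstH : IsPiHallOf (kappa Mstar) (cs M K) Mstar

/-- ... together with a Sylow `r`-subgroup `R ≠ 1` of `U` and a maximal subgroup `H ≥ N(R)`. -/
structure P2H {G : Type u} [Group G] (M K U Mstar R H : Subgroup G) (r : ℕ) : Prop where
  ctx : P2Ctx M K U Mstar
  hr : r.Prime
  hRU : R ≤ U
  hR1 : R ≠ ⊥
  hRp : IsPGroup r R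
  hRs : ¬ r ∣ R.relIndex U
  hH : IsCoatom H
  hNR : normalizer (R : Set G) ≤ H

variable (G : Type u) [Group G]

/-- (B0) the facts on `(M, K, U, Mstar)` read off the landed rows. -/
def QB : Prop :=
  ∀ M K U Mstar : Subgroup G, P2Ctx M K U Mstar →
    (Nat.card K).Prime ∧ IsMulCommutative U ∧
    (∀ k ∈ K, k ≠ 1 → U ⊓ centralizer ({k} : Set G) = ⊥) ∧
    IsComplIn (U ⊔ K) (sigmaCore M) M ∧
    (centralizer (K : Set G) ≤ Mstar ∧
      ∀ L : Subgroup G, IsCoatom L → centralizer (K : Set G) ≤ L → L = Mstar) ∧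
    K ≤ sigmaCore Mstar ∧ Nat.card K ∈ sigma Mstar ∧
    (∀ g : G, g ∉ Mstar → K ⊓ Mstar.map (MulAut.conj g).toMonoidHom = ⊥) ∧
    M ⊓ Mstar = K ⊔ cs M K ∧
    (∀ q : ℕ, q.Prime → q ∣ Nat.card U → q ∉ sigma M ∧ q ∉ kappa M) ∧
    cs M U = ⊥ ∧
    ∀ L : Subgroup G, IsCoatom L → (kappa L).Nonempty →
      ∃ g : G, L = M.map (MulAut.conj g).toMonoidHom ∨ L = Mstar.map (MulAut.conj g).toMonoidHom

/-- (KL) the key lemma. -/
def QK : Prop :=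
  ∀ M K U Mstar : Subgroup G, P2Ctx M K U Mstar →
    ∀ H E : Subgroup G, IsCoatom H → kappa H = ∅ → IsComplIn E (sigmaCore H) H → K ≤ E →
    Nat.card K ∈ tau1 H →
    ∀ s ∈ tau2 H, ∀ A : Subgroup G, A ≤ E → IsElementaryAbelian s A → Nat.card A = s ^ 2 →
    (s ∉ sigma M ∨ ∃ r ∈ sigma H, r ∣ Nat.card M) → A ≤ centralizer (K : Set G)

/-- Steps 1, 2. -/
def Q1 : Prop :=
  ∀ (M K U Mstar R H : Subgroup G) (r : ℕ), P2H M K U Mstar R H r →
    U ⊔ K ≤ H ∧ kappa H = ∅ ∧ Nat.card K ∉ sigma H ∧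
    (∀ g : G, H ≠ M.map (MulAut.conj g).toMonoidHom) ∧
    (∀ g : G, H ≠ Mstar.map (MulAut.conj g).toMonoidHom)

/-- Step 3. -/
def Q3 : Prop :=
  ∀ (M K U Mstar R H : Subgroup G) (r : ℕ), P2H M K U Mstar R H r → U ≤ sigmaCore H

/-- Steps 4, 5. -/
def Q4 : Prop :=
  ∀ (M K U Mstar R H : Subgroup G) (r : ℕ), P2H M K U Mstar R H r →
    M ⊓ H = U ⊔ K ∧ cs H K = ⊥ ∧ Group.IsNilpotent (sigmaCore H) ∧
    ¬ H ⊓ normalizer (U : Set G) ≤ M

/-- Step 6. -/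
def Q6 : Prop :=
  ∀ (M K U Mstar R H : Subgroup G) (r : ℕ), P2H M K U Mstar R H r →
    K ≤ fittingOf (H ⊓ Mstar) ∧ IsComplIn (H ⊓ Mstar) (sigmaCore H) H

end Cfsg.Agent.Lib.Helper87.BG14
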